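import Cfsg.Agent.Omega.IIa4.Sit
import Cfsg.Agent.Omega.Lie.LayerPerf

/-!
# II.a, `q ≥ 4`: the layer of `H = N(R i)/O₂(N(R i))` (interface; output of NODE LIE, LAYER)

`Lay V R i j T S` : `A = AA V R i j` centralises the odd part of `H⁰ = C(R i)/O₂`, and every component `K ≤ H⁰` with
`[K, A] ≠ 1` is of Lie type of characteristic 2, is normalised by `T`, and `A` acts on it as `A ⊓ K` (`CompB.Hyp`).
-/

set_option autoImplicit false
set_option linter.unusedSectionVars false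

namespace Cfsg.Agent.Omega.IIa4

open Subgroup Cfsg Cfsg.Agent.ZN Cfsg.Agent.Omega.NatPair Cfsg.Agent.Omega.BTwo
open Cfsg.Agent.Omega.Frame Cfsg.Agent.Omega.FrameFF Cfsg.Agent.Omega.Lie Cfsg.Agent.Omega.Lie.Quot

universe u

/-- the components `K ≤ H⁰` moved by `A` -/
def MComp {G : Type*} [Group G] {ι : Type*} (V : Subgroup G) (R : ι → Subgroup G) (i j : ι)
    (K : Subgroup (HQ (R i))) : Prop :=
  IsComponent K ∧ K ≤ H0 R i ∧ ∃ a ∈ AA V R i j, ∃ k ∈ K, a * k ≠ k * a

/-- **LAYER.** -/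
structure Lay {G : Type*} [Group G] {ι : Type*} (V : Subgroup G) (R : ι → Subgroup G) (i j : ι)
    (T S : Subgroup (HQ (R i))) : Prop where
  odd : Layer.OddC V R i j
  hyp : ∀ K : Subgroup (HQ (R i)), MComp V R i j K → CompB.Hyp S (AA V R i j) T K
  lie : ∀ K : Subgroup (HQ (R i)), MComp V R i j K → IsLieTypeChar 2 (K ⧸ center K)

/-- LAYER at every pair of points -/
def LayAll {G : Type u} [Group G] {ι : Type*} (V : Subgroup G) (R : ι → Subgroup G) (F : Type) [Field F] : Prop :=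
  ∀ (i j : ι), i ≠ j → ∀ (v : F → F → G) (w1 w2 : F → G) (t : F → G), Coord V R i j v w1 w2 →
    ∀ (τ : TorD V R i j v t) (S₁ : Sylow 2 G), (S₁ : Subgroup G) ≤ normalizer (V : Set G) →
      (S₁ : Subgroup G) ≤ normalizer (R i : Set G) → Lay V R i j (TT τ) (SS R i S₁)

/-- a component has centre of odd order if `O₂(H) = 1` -/
theorem center_eq_one {H : Type*} [Group H] [Finite H] (hO : pCore 2 H = ⊥) {K : Subgroup H}
    (hK : IsComponent K) {x : H} (hx : x ∈ K) (hc : ∀ y ∈ K, x * y = y * x) (h2 : x * x = 1) : x = 1 := by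
  have hfact : Fact (Nat.Prime 2) := ⟨Nat.prime_two⟩
  let Z : Subgroup K := zpowers ⟨x, hx⟩
  have h1 : (⟨x, hx⟩ : K) ∈ center K := by
    rw [mem_center_iff]
    intro y
    exact Subtype.ext (hc y y.2).symm
  have hZc : Z ≤ center K := zpowers_le.2 h1
  have hZn : Z.Normal := ⟨fun z hz y => by
    have h1 := mem_center_iff.1 (hZc hz) y
    have h2 : y * z * y⁻¹ = z := by rw [h1]; group
    rwa [h2]⟩
  have hZp : IsPGroup 2 Z := by
    rw [IsPGroup.iff_card]
    have h2 : Nat.card Z ∣ 2 := by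
      rw [Nat.card_zpowers]
      exact orderOf_dvd_of_pow_eq_one (by rw [pow_two]; exact Subtype.ext h2)
    rcases (Nat.dvd_prime Nat.prime_two).1 h2 with h3 | h3
    · exact ⟨0, by rw [h3, pow_zero]⟩
    · exact ⟨1, by rw [h3, pow_one]⟩
  have hZs : (Z.map K.subtype).IsSubnormal := (Normal.isSubnormal hZn).trans' hK.1
  have h2 := SignalizersComponents.CompBasic.subnormal_pGroup_le_pCore hZs (hZp.map K.subtype)
  rw [hO] at h2
  exact h2 ⟨⟨x, hx⟩, mem_zpowers _, rfl⟩

namespace Lay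

variable {G : Type u} [Group G] {ι : Type*} {V : Subgroup G} {R : ι → Subgroup G} {i j : ι}
  {T S : Subgroup (HQ (R i))} (h : Lay V R i j T S)
include h

theorem innC : Layer.InnC V R i j := by
  intro K hK hK0
  by_cases hne : ∃ a ∈ AA V R i j, ∃ k ∈ K, a * k ≠ k * a
  · exact Layer.InnA.of_hyp (h.hyp K ⟨hK, hK0, hne⟩)
  · push Not at hne
    exact Layer.InnA.of_comm hne

/-- the normal closure of `A` is perfect -/
theorem perf [Finite G] (b : BT V R) (hij : i ≠ j) : Perf V R i j :=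
  Layer.perf_of b hij h.odd h.innC

theorem A_le [Finite G] (b : BT V R) (hij : i ≠ j) :
    AA V R i j ≤ ⨆ K ∈ {K : Subgroup (HQ (R i)) | MComp V R i j K}, AA V R i j ⊓ K := by
  refine (Layer.A_le_iSup b hij h.odd h.innC).trans (iSup₂_le fun K hK => ?_)
  by_cases hne : ∃ a ∈ AA V R i j, ∃ k ∈ K, a * k ≠ k * a
  · exact le_iSup₂ (f := fun (K : Subgroup (HQ (R i))) (_ : K ∈ {K : Subgroup (HQ (R i)) | MComp V R i j K}) =>
      AA V R i j ⊓ K) K ⟨hK.1, hK.2, hne⟩
  · have h1 : AA V R i j ⊓ K = ⊥ := by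
      rw [eq_bot_iff]
      intro x hx
      push Not at hne
      exact center_eq_one (pCore_HQ (R i)) hK.1 hx.2 (fun y hy => hne x hx.1 y hy) (A_sq b hij hx.1)
    rw [h1]
    exact bot_le

end Lay

end Cfsg.Agent.Omega.IIa4
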