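import Cfsg.Agent.Omega.IIa4.GZeroOf
import Cfsg.Agent.Omega.Lie.End.AHat

/-!
# II.a, `q ≥ 4`: the product of the moved components is `⟨A^H⟩` (piece (P4) of #15373)

`up R L` : the preimage in `G` of `L ≤ H = N(R)/O₂(N(R))`.  For `l : Lay V R i j T S` (LAYER at the pair `(i, j)`):

* `Lay.dat` : the data of `End.AHat`;
* `Lay.mcomp_conj`, `Lay.nc_eq`, `Lay.sylow_eq`, `Lay.mcomp_of_le`, `Lay.nc_perfect` : if `(⨆ K ∈ MComp, K)` is normal in
  `H`, the moved components are permuted by `H`, `⟨A^H⟩ = ⨆ K`, `S ⊓ ⟨A^H⟩ = ⨆ (S ⊓ K)`, the components of `H`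
  contained in `⟨A^H⟩` are the moved ones;
* `Sit.mcomp_normal` : in the situation `Sit` with `CenSE` the product of the moved components is normal.
-/

set_option autoImplicit false
set_option linter.unusedSectionVars false

namespace Cfsg.Agent.Omega.IIa4

open Subgroup Cfsg Cfsg.Agent.ZN Cfsg.Agent.Omega.NatPair Cfsg.Agent.Omega.BTwo
open Cfsg.Agent.Omega.Frame Cfsg.Agent.Omega.FrameFF Cfsg.Agent.Omega.Lie Cfsg.Agent.Omega.Lie.Quot
open Cfsg.Agent.Omega.Lie.End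

universe u

/-! ### Preimages in `G` -/

namespace Moved

section up

variable {G : Type u} [Group G] {R : Subgroup G} {L L' : Subgroup (HQ R)}

/-- the preimage in `G` of a subgroup of `N(R)/O₂(N(R))` -/
def up (R : Subgroup G) (L : Subgroup (HQ R)) : Subgroup G :=
  (L.comap (pr R)).map (normalizer (R : Set G)).subtype

theorem mem_up {g : G} : g ∈ up R L ↔ ∃ hg : g ∈ normalizer (R : Set G), pr R ⟨g, hg⟩ ∈ L := by
  unfold up
  rw [mem_map]
  constructor
  · rintro ⟨x, hx, rfl⟩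
    exact ⟨x.2, hx⟩
  · rintro ⟨hg, hL⟩
    exact ⟨⟨g, hg⟩, hL, rfl⟩

theorem up_le : up R L ≤ normalizer (R : Set G) := fun _ hg => (mem_up.1 hg).1

theorem up_mono (h : L ≤ L') : up R L ≤ up R L' := fun g hg => by
  obtain ⟨h1, h2⟩ := mem_up.1 hg
  exact mem_up.2 ⟨h1, h h2⟩

theorem QQ_le_up : QQ R ≤ up R L := fun g hg => by
  have h1 : g ∈ normalizer (R : Set G) := by
    obtain ⟨x, -, rfl⟩ := hg
    exact x.2
  refine mem_up.2 ⟨h1, ?_⟩
  rw [(pr_eq_one h1).2 hg]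
  exact one_mem _

theorem im_up : im R (up R L) = L := by
  ext x
  obtain ⟨g, hg, rfl⟩ := exists_pr x
  rw [pr_mem_im_iff QQ_le_up, mem_up]
  exact ⟨fun ⟨_, h⟩ => h, fun h => ⟨hg, h⟩⟩

theorem le_up {A : Subgroup G} (hA : A ≤ normalizer (R : Set G)) (h : im R A ≤ L) : A ≤ up R L := fun _ hg =>
  mem_up.2 ⟨hA hg, h (pr_mem_im (hA hg) hg)⟩

theorem up_im {A : Subgroup G} (hQ : QQ R ≤ A) (hA : A ≤ normalizer (R : Set G)) : up R (im R A) = A := by
  refine le_antisymm (fun g hg => ?_) (le_up hA le_rfl)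
  obtain ⟨h1, h2⟩ := mem_up.1 hg
  exact (pr_mem_im_iff hQ h1).1 h2

theorem up_conj (hL : L.Normal) {g x : G} (hg : g ∈ normalizer (R : Set G)) (hx : x ∈ up R L) :
    g * x * g⁻¹ ∈ up R L := by
  obtain ⟨h1, h2⟩ := mem_up.1 hx
  exact mem_up.2 ⟨mul_mem (mul_mem hg h1) (inv_mem hg), hL.conj_mem _ h2 (pr R ⟨g, hg⟩)⟩

/-- the preimage of a normal subgroup is normal in `N(R)` -/
theorem le_normalizer_up (hL : L.Normal) : normalizer (R : Set G) ≤ normalizer (up R L : Set G) := by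
  intro g hg
  rw [mem_normalizer_iff]
  intro x
  refine ⟨up_conj hL hg, fun h => ?_⟩
  have h1 := up_conj hL (inv_mem hg) h
  have e : g⁻¹ * (g * x * g⁻¹) * g⁻¹⁻¹ = x := by group
  rwa [e] at h1

theorem up_inf : up R (L ⊓ L') = up R L ⊓ up R L' := by
  ext g
  rw [mem_inf, mem_up, mem_up, mem_up]
  constructor
  · rintro ⟨h1, h2⟩
    exact ⟨⟨h1, h2.1⟩, ⟨h1, h2.2⟩⟩
  · rintro ⟨⟨h1, h2⟩, ⟨h3, h4⟩⟩
    exact ⟨h1, h2, h4⟩

theorem up_sup : up R (L ⊔ L') = up R L ⊔ up R L' := by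
  unfold up
  rw [← Subgroup.map_sup, comap_sup_eq _ _ _ (pr_surjective R)]

end up

section BT

variable {G : Type u} [Group G] {ι : Type*} {V : Subgroup G} {R : ι → Subgroup G} {i j : ι}

/-- `C(R i)` is the preimage of `H⁰` -/
theorem up_H0 (b : BT V R) : up (R i) (H0 R i) = centralizer (R i : Set G) :=
  up_im (Q_le_C b i) (centralizer_le_normalizer _)

/-- `A` is the image of `Y` -/
theorem im_YY (b : BT V R) (hij : i ≠ j) : im (R i) (YY V R) = AA V R i j := by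
  have h1 : UU V R i ≤ QQ (R i) := (UU_le_WW i).trans (b.W_le_Q i)
  rw [b.Y_eq hij, im_sup (h1.trans (b.Q_le i)) (U_le_N b i j), im_eq_bot h1, bot_sup_eq]
  rfl

/-- elements of `N(R i) ⊓ N(V)` normalise `A` -/
theorem norm_A (b : BT V R) (hij : i ≠ j) {g : G} (hg : g ∈ normalizer (R i : Set G))
    (hV : g ∈ normalizer (V : Set G)) : ∀ a ∈ AA V R i j, pr (R i) ⟨g, hg⟩ * a * (pr (R i) ⟨g, hg⟩)⁻¹ ∈ AA V R i j := by
  rw [← im_YY b hij]
  intro a ha
  obtain ⟨y, hy, hyY, rfl⟩ := mem_im.1 ha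
  exact mem_im.2 ⟨_, _, conj_mem_of_normalizer (b.NV_le_NY hV) hyY, rfl⟩

/-- `⟨U_j^{N(R i)}⟩ O₂(N(R i))` -/
def EE (V : Subgroup G) (R : ι → Subgroup G) (i j : ι) : Subgroup G :=
  up (R i) (normalClosure (AA V R i j : Set (HQ (R i))))

theorem U_le_EE (b : BT V R) : UU V R j ≤ EE V R i j :=
  le_up (U_le_N b i j) fun _ hx => subset_normalClosure hx

theorem Y_le_EE (b : BT V R) (hij : i ≠ j) : YY V R ≤ EE V R i j := by
  refine le_up ((YY_le_cen).trans (b.cen_le_N i)) ?_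
  rw [im_YY b hij]
  exact fun _ hx => subset_normalClosure hx

theorem NR_le_NEE : normalizer (R i : Set G) ≤ normalizer (EE V R i j : Set G) :=
  le_normalizer_up inferInstance

theorem EE_le_cen (b : BT V R) : EE V R i j ≤ centralizer (R i : Set G) := by
  rw [← up_H0 b]
  have := Layer.H0_normal R i
  exact up_mono (normalClosure_le_normal (Layer.A_le_H0 b))

end BT

end Moved

open Moved AHat

/-! ### The moved components -/

namespace Lay

variable {G : Type u} [Group G] {ι : Type*} {V : Subgroup G} {R : ι → Subgroup G} {i j : ι}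
  {T S : Subgroup (HQ (R i))} (l : Lay V R i j T S) (b : BT V R) (hij : i ≠ j)
include l b hij

/-- the data of `End.AHat` -/
theorem dat : Dat (H0 R i) S (AA V R i j) T where
  O2 := pCore_HQ (R i)
  norm := Layer.H0_normal R i
  A_le := Layer.A_le_H0 b
  sq := fun _ ha => A_sq b hij ha
  odd := l.odd
  hyp := l.hyp

variable [Finite G]

/-- `A ⊓ K ≠ 1` for a moved component -/
theorem inf_ne {K : Subgroup (HQ (R i))} (hK : MComp V R i j K) : AA V R i j ⊓ K ≠ ⊥ := (l.dat b hij).inf_ne hK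

/-- `K` is moved iff `A ⊓ K ≠ 1` -/
theorem mcomp_iff {K : Subgroup (HQ (R i))} : MComp V R i j K ↔ IsComponent K ∧ K ≤ H0 R i ∧ AA V R i j ⊓ K ≠ ⊥ := by
  refine ⟨fun h => ⟨h.1, h.2.1, l.inf_ne b hij h⟩, fun ⟨h1, h2, h3⟩ => ⟨h1, h2, ?_⟩⟩
  by_contra hc
  push Not at hc
  exact h3 ((l.dat b hij).inf_eq_bot h1 hc)

theorem comp_le_nc {K : Subgroup (HQ (R i))} (hK : MComp V R i j K) :
    K ≤ normalClosure (AA V R i j : Set (HQ (R i))) := (l.dat b hij).le_nc hK

section normal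

variable (hn : (⨆ K ∈ {K : Subgroup (HQ (R i)) | MComp V R i j K}, K).Normal)
include hn

/-- **`⟨A^H⟩ = ∏ K`** -/
theorem nc_eq : normalClosure (AA V R i j : Set (HQ (R i))) = ⨆ K ∈ {K : Subgroup (HQ (R i)) | MComp V R i j K}, K :=
  le_antisymm (normalClosure_le_normal (l.dat b hij).A_le_prod) (l.dat b hij).prod_le_nc

/-- a component in `⟨A^H⟩` is moved -/
theorem mcomp_of_le {L : Subgroup (HQ (R i))} (hL : IsComponent L)
    (hle : L ≤ normalClosure (AA V R i j : Set (HQ (R i)))) : MComp V R i j L := by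
  by_contra hcon
  have h1 : normalClosure (AA V R i j : Set (HQ (R i))) ≤ centralizer (L : Set (HQ (R i))) := by
    rw [l.nc_eq b hij hn]
    refine iSup₂_le fun K hK => ?_
    exact SignalizersComponents.Components.component_le_centralizer_of_ne hK.1 hL (by rintro rfl; exact hcon hK)
  apply SignalizersComponents.Components.quasisimple_not_isMulCommutative hL.2
  refine ⟨⟨fun x y => Subtype.ext ?_⟩⟩
  exact (mem_centralizer_iff.1 (h1 (hle x.2)) y y.2).symm

/-- the moved components are permuted by `H` -/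
theorem mcomp_conj {K : Subgroup (HQ (R i))} (hK : MComp V R i j K) (h : HQ (R i)) : MComp V R i j (cg h K) := by
  refine l.mcomp_of_le b hij hn (SignalizersComponents.Components.isComponent_conj h hK.1) ?_
  rintro _ ⟨x, hx, rfl⟩
  exact (inferInstance : (normalClosure (AA V R i j : Set (HQ (R i)))).Normal).conj_mem _
    (l.comp_le_nc b hij hK hx) h

/-- `⟨A^H⟩` is perfect -/
theorem nc_perfect : ⁅normalClosure (AA V R i j : Set (HQ (R i))), normalClosure (AA V R i j : Set (HQ (R i)))⁆ =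
    normalClosure (AA V R i j : Set (HQ (R i))) :=
  (l.dat b hij).nc_perfect fun _ hK h => l.mcomp_conj b hij hn hK h

/-- **`S ⊓ ⟨A^H⟩ = ∏ (S ⊓ K)`** -/
theorem sylow_eq (hS : IsPGroup 2 S) : S ⊓ normalClosure (AA V R i j : Set (HQ (R i))) =
    ⨆ K ∈ {K : Subgroup (HQ (R i)) | MComp V R i j K}, S ⊓ K :=
  (l.dat b hij).sylow_eq hS fun _ hK h => l.mcomp_conj b hij hn hK h

end normal

/-- the product of the moved components is normal if `H = ⟨A^H⟩ N_H(A)` -/
theorem normal_of_fac (hfac : ∀ h : HQ (R i), ∃ x ∈ normalClosure (AA V R i j : Set (HQ (R i))),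
    ∃ n, (∀ a ∈ AA V R i j, n * a * n⁻¹ ∈ AA V R i j) ∧ h = x * n) :
    (⨆ K ∈ {K : Subgroup (HQ (R i)) | MComp V R i j K}, K).Normal := by
  have h1 := (l.dat b hij).nc_eq fun _ hK h => (l.dat b hij).inv_of_fac hfac hK h
  change normalClosure (AA V R i j : Set (HQ (R i))) =
    ⨆ K ∈ {K : Subgroup (HQ (R i)) | MComp V R i j K}, K at h1
  rw [← h1]
  infer_instance

end Lay

namespace Sit

variable {G : Type u} [Group G] [Finite G] {S : Sylow 2 G} {P : Subgroup G} {g : G} {F : Type} [Field F]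
  [Finite F] [CharP F 2] {M : NatMod F (zl (S : Subgroup G) P)} (h : Sit S P g M)
include h

/-- `H = ⟨A^H⟩ N_H(A)` -/
theorem fac (hcen : CenSE (zl (S : Subgroup G) P) (pt M)) {i j : Pt M} (hij : i ≠ j) (x : HQ (pt M i)) :
    ∃ e ∈ normalClosure (AA (zl (S : Subgroup G) P) (pt M) i j : Set (HQ (pt M i))), ∃ n,
      (∀ a ∈ AA (zl (S : Subgroup G) P) (pt M) i j, n * a * n⁻¹ ∈ AA (zl (S : Subgroup G) P) (pt M) i j) ∧
      x = e * n := by
  obtain ⟨y, hy, rfl⟩ := exists_pr x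
  obtain ⟨e, he, hV⟩ := h.frattini hcen hij (E := EE (zl (S : Subgroup G) P) (pt M) i j) NR_le_NEE (U_le_EE h.bt)
    (EE_le_cen h.bt) hy
  obtain ⟨heN, heE⟩ := mem_up.1 he
  refine ⟨(Quot.pr (pt M i) ⟨e, heN⟩)⁻¹, inv_mem heE, Quot.pr (pt M i) ⟨e * y, mul_mem heN hy⟩, norm_A h.bt hij _ hV, ?_⟩
  rw [eq_inv_mul_iff_mul_eq, ← map_mul]
  rfl

/-- **(L8)** the product of the moved components is normal -/
theorem mcomp_normal (hcen : CenSE (zl (S : Subgroup G) P) (pt M)) {i j : Pt M} (hij : i ≠ j)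
    {T S' : Subgroup (HQ (pt M i))} (l : Lay (zl (S : Subgroup G) P) (pt M) i j T S') :
    (⨆ K ∈ {K : Subgroup (HQ (pt M i)) | MComp (zl (S : Subgroup G) P) (pt M) i j K}, K).Normal :=
  l.normal_of_fac h.bt hij (h.fac hcen hij)

/-- **`GZero` from a BN-pair of `X ⟨(U j)^{N(R i)}⟩ O₂(N(R i))`** -/
theorem gZero_of_EE (hcen : CenSE (zl (S : Subgroup G) P) (pt M)) {i j : Pt M} (hij : i ≠ j)
    (hBN : HasBN ↥(XX (zl (S : Subgroup G) P) (pt M) ⊔ EE (zl (S : Subgroup G) P) (pt M) i j)) :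
    GZero (zl (S : Subgroup G) P) (pt M) :=
  h.gZero_of hcen hij NR_le_NEE (U_le_EE h.bt) (EE_le_cen h.bt) hBN

end Sit

end Cfsg.Agent.Omega.IIa4
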