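import Cfsg.Agent.Omega.Lie.TorNat
import Cfsg.Agent.Omega.BTwo.CzAll
import Cfsg.Agent.Lib.CoprimeCommutator

/-!
# II.a, `q ≥ 4`: LEMMA CA (`C_M(A) = e`)

`P₀` a 2-group with `Y ≤ P₀ ≤ C(V)`; `M = W i / R i`, `e = V / R i`, `A` the image of `U j`.  If `C_M(P₀) = e`
then `C_M(A) = e`:  `x ∈ W i`, `[U j, x] ≤ R i` imply `x ∈ V`.
-/

set_option autoImplicit false
set_option linter.unusedSectionVars false

namespace Cfsg.Agent.Omega.IIa4.CenA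

open Subgroup Cfsg.Agent.Omega.BTwo Cfsg.Agent.Omega.Lie

universe u v w

section cop

variable {G : Type u} [Group G]

/-- an abelian group `T` of odd order stabilising a coset `p Y` of a 2-group `Y` centralises an element of it -/
theorem exists_cen_coset [Finite G] {T Y : Subgroup G} (hT : ∀ a ∈ T, ∀ b ∈ T, a * b = b * a)
    (hTY : T ≤ normalizer (Y : Set G)) (ho : ∀ a ∈ T, Odd (orderOf a)) (hY : IsPGroup 2 Y) (p : G)
    (hp : ∀ a ∈ T, p⁻¹ * (a * p * a⁻¹) ∈ Y) : ∃ c, p⁻¹ * c ∈ Y ∧ ∀ a ∈ T, a * c = c * a := by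
  classical
  let S : Set (Subgroup G) := {B | B ≤ T ∧ ∃ c, p⁻¹ * c ∈ Y ∧ ∀ a ∈ B, a * c = c * a}
  have hne : S.Nonempty := ⟨⊥, bot_le, p, by rw [inv_mul_cancel]; exact one_mem _, fun a ha => by
    rw [mem_bot.1 ha, one_mul, mul_one]⟩
  obtain ⟨B, hB⟩ := (Set.toFinite S).exists_maximal hne
  obtain ⟨⟨hBT, c, hc, hcB⟩, hmax⟩ := hB
  suffices h : ∀ a ∈ T, a ∈ B from ⟨c, hc, fun a ha => hcB a (h a ha)⟩
  refine Lib.CoprimeCommutator.induction_prime_power T (· ∈ B) (one_mem _)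
    (fun a _ b _ h1 h2 => mul_mem h1 h2) ?_
  intro r n hr a ha hpow
  have hfr : Fact r.Prime := ⟨hr⟩
  by_cases ha1 : a = 1
  · rw [ha1]; exact one_mem _
  have hr2 : r ≠ 2 := by
    rintro rfl
    obtain ⟨k, -, hk⟩ := (Nat.dvd_prime_pow Nat.prime_two).1 (orderOf_dvd_of_pow_eq_one hpow)
    have h1 := ho a ha
    rw [hk] at h1
    rcases Nat.eq_zero_or_pos k with h0 | h0
    · rw [h0, pow_zero, orderOf_eq_one_iff] at hk
      exact ha1 hk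
    · have h2 : Even (2 ^ k) := (Nat.even_pow.2 ⟨even_two, h0.ne'⟩)
      exact (Nat.not_odd_iff_even.2 h2) h1
  have hN : IsPGroup 2 (Y ⊓ centralizer (B : Set G) : Subgroup G) := hY.to_le inf_le_left
  have hPg : IsPGroup r (zpowers a) := by
    rintro ⟨x, hx⟩
    obtain ⟨k, rfl⟩ := mem_zpowers_iff.1 hx
    refine ⟨n, Subtype.ext ?_⟩
    change (a ^ k) ^ r ^ n = 1
    rw [← zpow_natCast, ← zpow_mul, mul_comm, zpow_mul, zpow_natCast, hpow, one_zpow]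
  have hTC : T ≤ normalizer (Y ⊓ centralizer (B : Set G) : Subgroup G) := by
    intro t ht
    rw [← cj_eq_self_iff, cj_inf, cj_eq_self_iff.2 (hTY ht)]
    congr 1
    rw [cj_of_mem]
    rw [mem_centralizer_iff]
    exact fun b hb => hT b (hBT hb) t ht
  have hcT : ∀ a ∈ T, c⁻¹ * (a * c * a⁻¹) ∈ Y := by
    intro a ha
    have h1 := hp a ha
    have h2 := conj_mem_of_normalizer (hTY ha) hc
    have e : c⁻¹ * (a * c * a⁻¹) = (p⁻¹ * c)⁻¹ * (p⁻¹ * (a * p * a⁻¹)) * (a * (p⁻¹ * c) * a⁻¹) := by group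
    rw [e]
    exact mul_mem (mul_mem (inv_mem hc) h1) h2
  obtain ⟨d, hd, hcd⟩ := Lib.CoprimeCommutator.exists_fixed_in_coset r (zpowers a)
    (Y ⊓ centralizer (B : Set G)) hPg ((zpowers_le.2 ha).trans hTC) (by
      obtain ⟨m, hm⟩ := IsPGroup.iff_card.1 hN
      rw [hm]
      exact fun h => hr2 ((Nat.prime_dvd_prime_iff_eq hr Nat.prime_two).1 (hr.dvd_of_dvd_pow h))) c (by
      intro x hx
      have hxT := (zpowers_le.2 ha) hx
      refine mem_inf.2 ⟨hcT x hxT, ?_⟩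
      have hcC : c ∈ centralizer (B : Set G) := mem_centralizer_iff.2 hcB
      have hxC : x ∈ centralizer (B : Set G) := mem_centralizer_iff.2 fun b hb => hT b (hBT hb) x hxT
      exact mul_mem (inv_mem hcC) (mul_mem (mul_mem hxC hcC) (inv_mem hxC)))
  have hcC : c ∈ centralizer (B : Set G) := mem_centralizer_iff.2 hcB
  have hdC : d ∈ centralizer (B : Set G) := by
    have h1 := mul_mem hcC (mem_inf.1 hcd).2
    rwa [mul_inv_cancel_left] at h1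
  have hin : B ⊔ zpowers a ∈ S := by
    refine ⟨sup_le hBT (zpowers_le.2 ha), d, ?_, ?_⟩
    · have h1 := mul_mem hc (mem_inf.1 hcd).1
      rwa [mul_assoc, mul_inv_cancel_left] at h1
    · have h1 : B ⊔ zpowers a ≤ centralizer {d} := by
        refine sup_le (fun b hb => ?_) (fun b hb => ?_)
        · rw [mem_centralizer_iff]
          rintro _ rfl
          exact (mem_centralizer_iff.1 hdC b hb).symm
        · rw [mem_centralizer_iff]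
          rintro _ rfl
          exact (mem_centralizer_iff.1 hd b hb).symm
      exact fun b hb => (mem_centralizer_iff.1 (h1 hb) d rfl).symm
  exact hmax hin le_sup_left (mem_sup_right (mem_zpowers a))

end cop

variable {G : Type u} [Group G] {ι : Type w} {F : Type v} [Field F] {V : Subgroup G} {R : ι → Subgroup G}
  {i j : ι} {v : F → F → G} {w1 w2 : F → G} {t : F → G}

/-- `[c, x]` -/
def kp (c x : G) : G := c * x * c⁻¹ * x⁻¹

theorem kp_mul {c x y : G} : kp c (x * y) = kp c x * (x * kp c y * x⁻¹) := by unfold kp; group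

theorem kp_mul_left {c d x : G} : kp (c * d) x = c * kp d x * c⁻¹ * kp c x := by unfold kp; group

theorem kp_conj {g c x : G} : kp c (g * x * g⁻¹) = g * kp (g⁻¹ * c * g) x * g⁻¹ := by unfold kp; group

theorem kp_conj' {g c x : G} : kp (g * c * g⁻¹) (g * x * g⁻¹) = g * kp c x * g⁻¹ := by unfold kp; group

/-- `{x ∈ Y : [P₀, x] ≤ V}` -/
def YP (b : BT V R) (P₀ : Subgroup G) : Subgroup G where
  carrier := {x | x ∈ YY V R ∧ ∀ c ∈ P₀, kp c x ∈ V}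
  one_mem' := ⟨one_mem _, fun c _ => by
    have e : kp c 1 = 1 := by unfold kp; group
    rw [e]; exact one_mem _⟩
  mul_mem' := by
    rintro x y ⟨hx, hx'⟩ ⟨hy, hy'⟩
    refine ⟨mul_mem hx hy, fun c hc => ?_⟩
    rw [kp_mul]
    exact mul_mem (hx' c hc) (conj_mem_of_normalizer (Y_le_NV hx) (hy' c hc))
  inv_mem' := by
    have _ := b
    rintro x ⟨hx, hx'⟩
    refine ⟨inv_mem hx, fun c hc => ?_⟩
    have e : kp c x⁻¹ = x⁻¹ * (kp c x)⁻¹ * x := by unfold kp; group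
    rw [e]
    exact conj_inv_mem_of_normalizer (Y_le_NV hx) (inv_mem (hx' c hc))

/-- `{x ∈ U k : [Y, x] ≤ R k}` -/
def CY (b : BT V R) (k : ι) : Subgroup G where
  carrier := {x | x ∈ UU V R k ∧ ∀ y ∈ YY V R, kp y x ∈ R k}
  one_mem' := ⟨one_mem _, fun c _ => by
    have e : kp c 1 = 1 := by unfold kp; group
    rw [e]; exact one_mem _⟩
  mul_mem' := by
    rintro x y ⟨hx, hx'⟩ ⟨hy, hy'⟩
    refine ⟨mul_mem hx hy, fun c hc => ?_⟩
    rw [kp_mul]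
    exact mul_mem (hx' c hc) (conj_mem_of_normalizer (b.cen_le_N k (UU_le_cen k hx)) (hy' c hc))
  inv_mem' := by
    rintro x ⟨hx, hx'⟩
    refine ⟨inv_mem hx, fun c hc => ?_⟩
    have e : kp c x⁻¹ = x⁻¹ * (kp c x)⁻¹ * x := by unfold kp; group
    rw [e]
    exact conj_inv_mem_of_normalizer (b.cen_le_N k (UU_le_cen k hx)) (inv_mem (hx' c hc))

section basic

variable (b : BT V R) {P₀ : Subgroup G}

theorem mem_YP {x : G} : x ∈ YP b P₀ ↔ x ∈ YY V R ∧ ∀ c ∈ P₀, kp c x ∈ V := Iff.rfl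

theorem mem_CY {k : ι} {x : G} : x ∈ CY b k ↔ x ∈ UU V R k ∧ ∀ y ∈ YY V R, kp y x ∈ R k := Iff.rfl

theorem CY_conj {g : G} (hg : g ∈ normalizer (V : Set G)) {k l : ι} (h : cj g (R k) = R l) {x : G}
    (hx : x ∈ CY b k) : g * x * g⁻¹ ∈ CY b l := by
  refine ⟨?_, fun y hy => ?_⟩
  · rw [← b.cj_UU hg h]; exact conj_mem_cj hx.1
  · rw [kp_conj, ← h]
    exact conj_mem_cj (hx.2 _ (conj_inv_mem_of_normalizer (b.NV_le_NY hg) hy))

theorem V_le_CY (k : ι) : V ≤ CY b k := fun x hx => by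
  refine ⟨b.D_le_U k (V_le_D V R hx), fun y hy => ?_⟩
  have e : kp y x = 1 := by
    unfold kp
    rw [← mem_centralizer_iff.1 (YY_le_cen hy) x hx]; group
  rw [e]; exact one_mem _

theorem YP_conj (hP : P₀ ≤ centralizer (V : Set G)) (hY : YY V R ≤ P₀) {g : G} (hg : g ∈ XX V R) {x : G}
    (hx : x ∈ YP b P₀) : g * x * g⁻¹ ∈ YP b P₀ := by
  have hgV := b.X_le_NV hg
  refine ⟨conj_mem_of_normalizer (b.NV_le_NY hgV) hx.1, fun c hc => ?_⟩
  rw [kp_conj]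
  exact conj_mem_of_normalizer hgV (hx.2 _ (conj_inv_mem_of_normalizer (X_le_N b hP hY hg) hc))

theorem V_le_YP (hP : P₀ ≤ centralizer (V : Set G)) : V ≤ YP b P₀ := fun x hx => by
  refine ⟨b.D_le_Y (V_le_D V R hx), fun c hc => ?_⟩
  have e : kp c x = 1 := by
    unfold kp
    rw [← mem_centralizer_iff.1 (hP hc) x hx]; group
  rw [e]; exact one_mem _

theorem kp_V (hP : P₀ ≤ centralizer (V : Set G)) {c x : G} (hc : c ∈ P₀) (hx : x ∈ V) : kp c x = 1 := by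
  unfold kp
  rw [← mem_centralizer_iff.1 (hP hc) x hx]; group

/-- `[c, x y] = [c, x] [c, y]` -/
theorem kmul {c x y : G} (hc : c ∈ P₀) (hx : x ∈ YP b P₀) (hy : y ∈ YP b P₀) :
    kp c (x * y) = kp c x * kp c y := by
  rw [kp_mul, ← mem_centralizer_iff.1 (YY_le_cen hx.1) _ (hy.2 c hc), mul_inv_cancel_right]

theorem kmul_left (hP : P₀ ≤ centralizer (V : Set G)) {c d x : G} (hc : c ∈ P₀) (hd : d ∈ P₀)
    (hx : x ∈ YP b P₀) : kp (c * d) x = kp d x * kp c x := by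
  rw [kp_mul_left, ← mem_centralizer_iff.1 (hP hc) _ (hx.2 d hd), mul_inv_cancel_right]

/-- relation (a) -/
theorem rel_a (hP : P₀ ≤ centralizer (V : Set G)) (hY : YY V R ≤ P₀) {g c x : G} (hg : g ∈ XX V R)
    (hc : c ∈ P₀) {k : ι} (hx : x ∈ YP b P₀) (hxk : x ∈ CY b k) :
    kp c (g * x * g⁻¹) * (g * kp c x * g⁻¹)⁻¹ ∈ cj g (R k) := by
  have hgV := b.X_le_NV hg
  have h1 : c⁻¹ * (g⁻¹ * c * g) ∈ YY V R := by
    have h2 := cen_V_X b (inv_mem (hP hc)) (inv_mem hg)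
    have e : c⁻¹ * (g⁻¹ * c * g) = c⁻¹ * g⁻¹ * c⁻¹⁻¹ * g⁻¹⁻¹ := by group
    rw [e]; exact h2
  have h3 : kp (g⁻¹ * c * g) x = kp (c⁻¹ * (g⁻¹ * c * g)) x * kp c x := by
    rw [← kmul_left b hP hc (hY h1) hx, mul_inv_cancel_left]
  rw [kp_conj, h3]
  have e : g * (kp (c⁻¹ * (g⁻¹ * c * g)) x * kp c x) * g⁻¹ * (g * kp c x * g⁻¹)⁻¹ =
      g * kp (c⁻¹ * (g⁻¹ * c * g)) x * g⁻¹ := by group
  rw [e]
  exact conj_mem_cj (hxk.2 _ h1)

theorem z_mem_U {g x : G} (hg : g ∈ WW V (R j)) (hx : x ∈ CY b i) : kp g x ∈ UU V R j := b.WU' hg hx.1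

theorem z_mem_YP (hP : P₀ ≤ centralizer (V : Set G)) (hY : YY V R ≤ P₀) {g x : G} (hg : g ∈ WW V (R j))
    (hx : x ∈ YP b P₀) : kp g x ∈ YP b P₀ :=
  mul_mem (YP_conj b hP hY (W_le_X V R j hg) hx) (inv_mem hx)

/-- `g ↦ [g, x]` is additive modulo `R j` -/
theorem z_add (hP : P₀ ≤ centralizer (V : Set G)) (hY : YY V R ≤ P₀) {g g' c x : G} (hc : c ∈ P₀)
    (hg : g ∈ WW V (R j)) (hg' : g' ∈ WW V (R j)) (hx : x ∈ YP b P₀) (hxi : x ∈ CY b i) :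
    kp c (kp (g * g') x) = kp c (kp g x) * kp c (kp g' x) := by
  have h1 := z_mem_U b hg' hxi
  have h2 := z_mem_YP b hP hY hg hx
  have h3 := z_mem_YP b hP hY hg' hx
  have h4 : kp g (kp g' x) ∈ R j := b.WU hg h1
  have h5 := b.R_le j h4
  have e : kp (g * g') x = kp g (kp g' x) * kp g' x * kp g x := by
    rw [kp_mul_left]
    conv_lhs => rw [show g * kp g' x * g⁻¹ = kp g (kp g' x) * kp g' x by unfold kp; group]
  rw [e, kmul b hc (mul_mem (V_le_YP b hP h5) h3) h2, kmul b hc (V_le_YP b hP h5) h3, kp_V hP hc h5, one_mul]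
  exact b.V_comm _ (h3.2 c hc) _ (h2.2 c hc)

/-- `x ↦ [g, x]` is additive modulo `V` -/
theorem z_mul (hP : P₀ ≤ centralizer (V : Set G)) (hY : YY V R ≤ P₀) {g c x y : G} (hc : c ∈ P₀)
    (hg : g ∈ WW V (R j)) (hx : x ∈ YP b P₀) (hy : y ∈ YP b P₀) :
    kp c (kp g (x * y)) = kp c (kp g x) * kp c (kp g y) := by
  have h2 := z_mem_YP b hP hY hg hx
  have h3 := z_mem_YP b hP hY hg hy
  have h4 : kp x (kp g y) ∈ V := h3.2 x (hY hx.1)
  have e : kp g (x * y) = kp g x * (kp x (kp g y) * kp g y) := by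
    rw [kp_mul]
    congr 1
    unfold kp; group
  rw [e, kmul b hc h2 (mul_mem (V_le_YP b hP h4) h3), kmul b hc (V_le_YP b hP h4) h3, kp_V hP hc h4, one_mul]

include b in
theorem z_V (hP : P₀ ≤ centralizer (V : Set G)) {g c x : G} (hc : c ∈ P₀)
    (hg : g ∈ WW V (R j)) (hx : x ∈ V) : kp c (kp g x) = 1 :=
  kp_V hP hc (mul_mem (conj_mem_of_normalizer (b.W_le_NV j hg) hx) (inv_mem hx))

end basic

section main

variable {P₀ : Subgroup G}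

/-- relation (b): `κ(c, [g, x]) = v ρ σ`, `κ(c, x) = v α β` imply `σ = s (α + ρ)` -/
theorem rel_b (b : BT V R) (C : Crd V R i j v w1 w2) (hP : P₀ ≤ centralizer (V : Set G)) (hY : YY V R ≤ P₀)
    {g c x : G} (hg : g ∈ WW V (R j)) (hc : c ∈ P₀) (hx : x ∈ YP b P₀) (hxi : x ∈ CY b i)
    {s ρ σ α β : F} (hs : ∀ b' c', g * v b' c' * g⁻¹ = v b' (c' + s * b'))
    (h1 : kp c (kp g x) = v ρ σ) (h2 : kp c x = v α β) : σ = s * (α + ρ) := by
  have h3 := rel_a b hP hY (W_le_X V R j hg) hc hx hxi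
  have e1 : g * x * g⁻¹ = kp g x * x := by unfold kp; group
  rw [e1, kmul b hc (z_mem_YP b hP hY hg hx) hx, h1, h2, hs, ← C.v_add] at h3
  obtain ⟨r, hr, er⟩ := h3
  obtain ⟨ρ', rfl⟩ := (C.Ri _).1 hr
  change g * v ρ' 0 * g⁻¹ = _ at er
  rw [hs, eq_mul_inv_iff_mul_eq, ← C.v_add] at er
  obtain ⟨e2, e3⟩ := C.eq_of er
  have e4 : ρ' = ρ := by
    have : ρ' + α = ρ + α := e2
    exact add_right_cancel this
  rw [e4] at e3
  linear_combination -e3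

/-- relation (P) -/
theorem rel_P (b : BT V R) (C : Crd V R i j v w1 w2) (hP : P₀ ≤ centralizer (V : Set G)) (hY : YY V R ≤ P₀)
    {g g' c x : G} (hg : g ∈ WW V (R j)) (hg' : g' ∈ WW V (R j)) (hc : c ∈ P₀) (hx : x ∈ YP b P₀)
    (hxi : x ∈ CY b i) {s s' ρ ρ' σ σ' : F} (hs : ∀ b' c', g * v b' c' * g⁻¹ = v b' (c' + s * b'))
    (hs' : ∀ b' c', g' * v b' c' * g'⁻¹ = v b' (c' + s' * b'))
    (h1 : kp c (kp g x) = v ρ σ) (h1' : kp c (kp g' x) = v ρ' σ') : s * ρ' + s' * ρ = 0 := by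
  obtain ⟨α, β, h2⟩ := (C.v_mem _).1 (hx.2 c hc)
  have h3 := rel_b b C hP hY hg hc hx hxi hs h1 h2.symm
  have h3' := rel_b b C hP hY hg' hc hx hxi hs' h1' h2.symm
  have h4 : kp c (kp (g * g') x) = v (ρ + ρ') (σ + σ') := by
    rw [z_add b hP hY hc hg hg' hx hxi, h1, h1', C.v_add]
  have hs2 : ∀ b' c', (g * g') * v b' c' * (g * g')⁻¹ = v b' (c' + (s' + s) * b') := by
    intro b' c'
    have e : (g * g') * v b' c' * (g * g')⁻¹ = g * (g' * v b' c' * g'⁻¹) * g⁻¹ := by group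
    rw [e, hs', hs]
    congr 1
    ring
  have h5 := rel_b b C hP hY (mul_mem hg hg') hc hx hxi hs2 h4 h2.symm
  linear_combination -h5 + h3 + h3'

/-- `ρ` has weight 3 -/
theorem rel_c (b : BT V R) (C : Crd V R i j v w1 w2) (τ : TorD V R i j v t)
    (hP : P₀ ≤ centralizer (V : Set G)) (hY : YY V R ≤ P₀)
    {g c x : G} (hg : g ∈ WW V (R j)) (hc : c ∈ P₀) (hx : x ∈ YP b P₀)
    (hxi : x ∈ CY b i) {a s ρ σ ρ' σ' : F} (ha : a ≠ 0) (hs0 : s ≠ 0) (hta : t a * c = c * t a)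
    (hs : ∀ b' c', g * v b' c' * g⁻¹ = v b' (c' + s * b'))
    (h1 : kp c (kp g x) = v ρ σ) (h2 : kp c (kp g (t a * x * (t a)⁻¹)) = v ρ' σ') : ρ' = a ^ 3 * ρ := by
  have htX := τ.memX a ha
  have hx' : t a * x * (t a)⁻¹ ∈ YP b P₀ := YP_conj b hP hY htX hx
  have hxi' : t a * x * (t a)⁻¹ ∈ CY b i := CY_conj b (b.X_le_NV htX) (cj_eq_self_iff.2 (τ.normR ha)) hxi
  have hg' : t a * g * (t a)⁻¹ ∈ WW V (R j) :=
    conj_mem_of_normalizer (normalizer_le_WW V (R j) (τ.normR' ha)) hg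
  have h3 : kp c (kp (t a * g * (t a)⁻¹) (t a * x * (t a)⁻¹)) = v (a * ρ) (a⁻¹ * σ) := by
    rw [kp_conj']
    have e : kp c (t a * kp g x * (t a)⁻¹) = t a * kp c (kp g x) * (t a)⁻¹ := by
      rw [kp_conj]
      congr 3
      rw [mul_assoc, ← hta, inv_mul_cancel_left]
    rw [e, h1, τ.act a _ _ ha]
  have hs' : ∀ b' c', (t a * g * (t a)⁻¹) * v b' c' * (t a * g * (t a)⁻¹)⁻¹ =
      v b' (c' + (a⁻¹ * a⁻¹ * s) * b') := by
    intro b' c'
    have e : (t a * g * (t a)⁻¹) * v b' c' * (t a * g * (t a)⁻¹)⁻¹ =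
        t a * (g * (t a⁻¹ * v b' c' * (t a⁻¹)⁻¹) * g⁻¹) * (t a)⁻¹ := by rw [τ.inv ha]; group
    rw [e, τ.act _ _ _ (inv_ne_zero ha), hs, τ.act _ _ _ ha, inv_inv]
    congr 1
    · rw [← mul_assoc, mul_inv_cancel₀ ha, one_mul]
    · rw [mul_add, ← mul_assoc, inv_mul_cancel₀ ha, one_mul]; ring
  have h4 := rel_P b C hP hY hg hg' hc hx' hxi' hs hs' h2 h3
  -- `s (a ρ) + a⁻² s ρ' = 0`
  have h5 : s * (a * a * (a * ρ) + ρ') = 0 := by
    have e : s * (a * a * (a * ρ) + ρ') = a * a * (s * (a * ρ) + (a⁻¹ * a⁻¹ * s) * ρ') := by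
      field_simp
    rw [e, h4, mul_zero]
  have h6 := (mul_eq_zero.1 h5).resolve_left hs0
  have h7 := TorD.two b τ (a * a * (a * ρ))
  linear_combination h6 - h7

/-- (c): `κ(c, [g, x]) ∈ R j` if `c` centralises `t a`, `t (a + 1)` -/
theorem rel_d (b : BTC V R) (C : Crd V R i j v w1 w2) (τ : TorD V R i j v t)
    (hP : P₀ ≤ centralizer (V : Set G)) (hY : YY V R ≤ P₀)
    {g c x : G} (hg : g ∈ WW V (R j)) (hc : c ∈ P₀) (hx : x ∈ YP b.toBT P₀)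
    (hxi : x ∈ CY b.toBT i) {a : F} (ha : a ≠ 0) (ha1 : a + 1 ≠ 0)
    (hta : t a * c = c * t a) (hta' : t (a + 1) * c = c * t (a + 1)) : kp c (kp g x) ∈ R j := by
  obtain ⟨s, hs⟩ := C.f2 g hg
  by_cases hs0 : s = 0
  · -- `g ∈ U j`
    have h1 : kp g x ∈ V := b.R_le i (hxi.2 g (UU_le_YY j (mem_inf.2 ⟨hg, C.mem_cen fun b' c' => by
      rw [hs, hs0, zero_mul, add_zero]⟩)))
    rw [kp_V hP hc h1]
    exact one_mem _
  obtain ⟨ρ, σ, h1⟩ := (C.v_mem _).1 ((z_mem_YP b.toBT hP hY hg hx).2 c hc)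
  have hX1 := YP_conj b.toBT hP hY (τ.memX a ha) hx
  have hX2 := YP_conj b.toBT hP hY (τ.memX _ ha1) hx
  have hC1 := CY_conj b.toBT (b.X_le_NV (τ.memX a ha)) (cj_eq_self_iff.2 (τ.normR ha)) hxi
  have hC2 := CY_conj b.toBT (b.X_le_NV (τ.memX _ ha1)) (cj_eq_self_iff.2 (τ.normR ha1)) hxi
  obtain ⟨ρ₁, σ₁, h2⟩ := (C.v_mem _).1 ((z_mem_YP b.toBT hP hY hg hX1).2 c hc)
  obtain ⟨ρ₂, σ₂, h3⟩ := (C.v_mem _).1 ((z_mem_YP b.toBT hP hY hg hX2).2 c hc)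
  have e1 := rel_c b.toBT C τ hP hY hg hc hx hxi ha hs0 hta hs h1.symm h2.symm
  have e2 := rel_c b.toBT C τ hP hY hg hc hx hxi ha1 hs0 hta' hs h1.symm h3.symm
  -- `t (a + 1) x = d (t a x) x`, `d ∈ V`
  set x₁ := t a * x * (t a)⁻¹ with hx₁
  set x₂ := t (a + 1) * x * (t (a + 1))⁻¹ with hx₂
  have h4 := τ.wU a 1 ha one_ne_zero ha1 x hxi.1
  rw [τ.one, inv_one, one_mul, mul_one, ← hx₁, ← hx₂] at h4
  have h5 : x₂ * (x₁ * x)⁻¹ ∈ CY b.toBT i := mul_mem hC2 (inv_mem (mul_mem hC1 hxi))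
  have h6 : x₂ * (x₁ * x)⁻¹ ∈ V := by
    refine b.cen_DU (i := j) h4 fun u hu => ?_
    have h7 := h5.2 u (UU_le_YY j hu)
    have h8 := b.DU h4 hu
    have h9 : kp u (x₂ * (x₁ * x)⁻¹) ∈ R j := by
      have e : kp u (x₂ * (x₁ * x)⁻¹) =
          (x₂ * (x₁ * x)⁻¹ * u * (x₂ * (x₁ * x)⁻¹)⁻¹ * u⁻¹)⁻¹ := by unfold kp; group
      rw [e]; exact inv_mem h8
    have h10 := b.eq_one C.ne h7 h9
    unfold kp at h10
    rw [mul_inv_eq_one, mul_inv_eq_iff_eq_mul] at h10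
    exact h10.symm
  have h7 : kp c (kp g x₂) = v (ρ₁ + ρ) (σ₁ + σ) := by
    have e : x₂ = x₂ * (x₁ * x)⁻¹ * (x₁ * x) := by group
    rw [e, z_mul b.toBT hP hY hc hg (V_le_YP b.toBT hP h6) (mul_mem hX1 hx), z_V b.toBT hP hc hg h6, one_mul,
      z_mul b.toBT hP hY hc hg hX1 hx, ← h1, ← h2, ← C.v_add]
  have e3 := (C.eq_of (h3.trans h7)).1
  have h8 : a * (a + 1) * ρ = 0 := by
    have h9 := TorD.two b.toBT τ ((a * (a + 1)) * ρ)
    rw [e1, e2] at e3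
    linear_combination e3 - h9
  have h9 : ρ = 0 := (mul_eq_zero.1 h8).resolve_left (mul_ne_zero ha ha1)
  rw [← h1, h9]
  exact (C.Rj _).2 ⟨_, rfl⟩

/-- (d): `c` centralises `t a` ⟹ `[c, d] = 1` for `d ∈ D`, `[c, d] ∈ V` -/
theorem rel_D (b : BT V R) (C : Crd V R i j v w1 w2) (τ : TorD V R i j v t)
    (hP : P₀ ≤ centralizer (V : Set G)) {c d : G} (hc : c ∈ P₀) (hd : d ∈ DD V R) (hdc : kp c d ∈ V)
    {a : F} (ha : a ≠ 0) (ha1 : a ≠ 1) (hta : t a * c = c * t a) : kp c d = 1 := by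
  obtain ⟨β, γ, h1⟩ := (C.v_mem _).1 (b.XD (τ.memX a ha) hd)
  have ha2 : a⁻¹ - 1 ≠ 0 := sub_ne_zero.2 fun h => ha1 (by rw [← inv_inv a, h, inv_one])
  have ha3 : a - 1 ≠ 0 := sub_ne_zero.2 ha1
  -- `w d` commutes with `t a`
  let w := v (-(a - 1)⁻¹ * β) (-(a⁻¹ - 1)⁻¹ * γ)
  have hw : w ∈ V := (C.v_mem _).2 ⟨_, _, rfl⟩
  have h2 : t a * w * (t a)⁻¹ * v β γ = w := by
    change t a * v _ _ * (t a)⁻¹ * v β γ = v _ _
    rw [τ.act a _ _ ha, ← C.v_add]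
    congr 1
    · field_simp; ring
    · field_simp; ring
  have h3 : t a * (w * d) * (t a)⁻¹ = w * d := by
    have e : t a * (w * d) * (t a)⁻¹ = t a * w * (t a)⁻¹ * (t a * d * (t a)⁻¹ * d⁻¹) * d := by group
    rw [e, ← h1, h2]
  have h4 : kp c (w * d) = kp c d := by
    rw [kp_mul, kp_V hP hc hw, one_mul, b.V_comm w hw _ hdc, mul_inv_cancel_right]
  rw [← h4] at hdc ⊢
  refine τ.fpf_V ha ha1 hdc ?_
  have e : t a * kp c (w * d) * (t a)⁻¹ = kp (t a * c * (t a)⁻¹) (t a * (w * d) * (t a)⁻¹) := by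
    rw [kp_conj']
  rw [e, h3, hta, mul_inv_cancel_right]

/-- `n x n⁻¹ ≡ [w2 1, x]` modulo `D` -/
theorem nn_inv (b : BT V R) (C : Crd V R i j v w1 w2) [CharP F 2] {x : G} (hx : x ∈ UU V R i) :
    nn w1 w2 1 * x * (nn w1 w2 1)⁻¹ * (kp (w2 (1 : F)⁻¹) x)⁻¹ ∈ DD V R := by
  have hnX : nn w1 w2 1 ∈ XX V R := C.to_coord.nn_mem_X b 1
  have hxY := UU_le_YY i hx
  set z := kp (w2 (1 : F)⁻¹) x with hz
  have hzU : z ∈ UU V R j := b.WU' (C.W2 _) hx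
  have h1 : nn w1 w2 1 * x * (nn w1 w2 1)⁻¹ ∈ UU V R j := by
    rw [← b.cj_UU (b.X_le_NV hnX) (C.to_coord.nn_R1 b one_ne_zero)]
    exact conj_mem_cj hx
  have hr : kp (w1 1) x ∈ R i := b.WU (C.W1 1) hx
  have hr2 : w1 1 * (w2 (1 : F)⁻¹ * kp (w1 1) x * (w2 (1 : F)⁻¹)⁻¹) * (w1 1)⁻¹ ∈ V :=
    conj_mem_of_normalizer (b.W_le_NV i (C.W1 1)) (conj_mem_of_normalizer (b.W_le_NV j (C.W2 _)) (b.R_le i hr))
  have h2 : kp (w1 1) z ∈ UU V R i := b.WU' (C.W1 1) hzU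
  have h3 : w1 1 * x * (w1 1)⁻¹ ∈ UU V R i := by
    have e : w1 1 * x * (w1 1)⁻¹ = kp (w1 1) x * x := by unfold kp; group
    rw [e]; exact mul_mem (b.R_le_U i hr) hx
  have h4 := b.Y_comm (UU_le_YY j hzU) (UU_le_YY i h3)
  have e : nn w1 w2 1 * x * (nn w1 w2 1)⁻¹ * z⁻¹ =
      (w1 1 * (w2 (1 : F)⁻¹ * kp (w1 1) x * (w2 (1 : F)⁻¹)⁻¹) * (w1 1)⁻¹) * kp (w1 1) z *
        (z * (w1 1 * x * (w1 1)⁻¹) * z⁻¹ * (w1 1 * x * (w1 1)⁻¹)⁻¹) * (w1 1 * x * (w1 1)⁻¹) := by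
    rw [hz]; unfold kp nn; group
  rw [← b.UU_inf C.ne]
  refine mem_inf.2 ⟨?_, mul_mem h1 (inv_mem hzU)⟩
  rw [e]
  exact mul_mem (mul_mem (mul_mem (b.D_le_U i (V_le_D V R hr2)) h2) (b.D_le_U i h4)) h3

/-- `[P₀, x] ≤ R i` -/
theorem kp_mem_R [Finite G] [CharP F 2] (b : BTC V R) (C : Crd V R i j v w1 w2) (τ : TorD V R i j v t)
    (hP : P₀ ≤ centralizer (V : Set G)) (hP2 : IsPGroup 2 P₀) (hY : YY V R ≤ P₀) {a : F} (ha : a ≠ 0)
    (ha1 : a ≠ 1) {c x : G} (hc : c ∈ P₀) (hx : x ∈ YP b.toBT P₀) (hxi : x ∈ CY b.toBT i) :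
    kp c x ∈ R i := by
  have haa : a + 1 ≠ 0 := by
    intro h
    apply ha1
    have h1 := TorD.two b.toBT τ (1 : F)
    exact add_right_cancel (h.trans h1.symm)
  have hnX : nn w1 w2 1 ∈ XX V R := C.to_coord.nn_mem_X b.toBT 1
  have hn : cj (nn w1 w2 1) (R i) = R j := C.to_coord.nn_R1 b.toBT one_ne_zero
  set n := nn w1 w2 1 with hndef
  have hx' : n * x * n⁻¹ ∈ YP b.toBT P₀ := YP_conj b.toBT hP hY hnX hx
  have hxj : n * x * n⁻¹ ∈ CY b.toBT j := CY_conj b.toBT (b.X_le_NV hnX) hn hxi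
  have hc' : n * c * n⁻¹ ∈ P₀ := conj_mem_of_normalizer (X_le_N b.toBT hP hY hnX) hc
  obtain ⟨c₀, hc₀, hcom⟩ := exists_cen_coset (T := τ.grp) (Y := YY V R)
    (by
      rintro _ ⟨a, ha, rfl⟩ _ ⟨a', ha', rfl⟩
      exact τ.comm ha ha')
    (by
      rintro _ ⟨a, ha, rfl⟩
      exact b.NV_le_NY (b.X_le_NV (τ.memX a ha)))
    (by
      rintro _ ⟨a, ha, rfl⟩
      exact τ.odd a ha) (hP2.to_le hY) (n * c * n⁻¹)
    (by
      rintro _ ⟨a, ha, rfl⟩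
      have h1 := cen_V_X b.toBT (inv_mem (hP hc')) (τ.memX a ha)
      rw [inv_inv] at h1
      have e : (n * c * n⁻¹)⁻¹ * (t a * (n * c * n⁻¹) * (t a)⁻¹) = (n * c * n⁻¹)⁻¹ * t a * (n * c * n⁻¹) * (t a)⁻¹ := by
        group
      rw [e]; exact h1)
  have hc₀P : c₀ ∈ P₀ := by
    have h1 := mul_mem hc' (hY hc₀)
    rwa [mul_inv_cancel_left] at h1
  -- `c' = c₀ y`
  have h1 : kp (n * c * n⁻¹) (n * x * n⁻¹) ∈ R j := by
    have e : n * c * n⁻¹ = c₀ * ((n * c * n⁻¹)⁻¹ * c₀)⁻¹ := by group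
    rw [e, kmul_left b.toBT hP hc₀P (hY (inv_mem hc₀)) hx']
    refine mul_mem (hxj.2 _ (inv_mem hc₀)) ?_
    have h2 := nn_inv b.toBT C hxi.1
    rw [← hndef] at h2
    have hz := z_mem_YP b.toBT hP hY (C.W2 (1 : F)⁻¹) hx
    have hd : n * x * n⁻¹ * (kp (w2 (1 : F)⁻¹) x)⁻¹ ∈ YP b.toBT P₀ := mul_mem hx' (inv_mem hz)
    have e2 : n * x * n⁻¹ = n * x * n⁻¹ * (kp (w2 (1 : F)⁻¹) x)⁻¹ * kp (w2 (1 : F)⁻¹) x := by group
    rw [e2, kmul b.toBT hc₀P hd hz,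
      rel_D b.toBT C τ hP hc₀P h2 (hd.2 c₀ hc₀P) ha ha1 (hcom _ ⟨a, ha, rfl⟩), one_mul]
    exact rel_d b C τ hP hY (C.W2 _) hc₀P hx hxi ha haa (hcom _ ⟨a, ha, rfl⟩) (hcom _ ⟨a + 1, haa, rfl⟩)
  rw [kp_conj', ← hn] at h1
  have h2 := mem_cj.1 h1
  rwa [show n⁻¹ * (n * kp c x * n⁻¹) * n = kp c x by group] at h2

/-- `CY i = V` -/
theorem CY_le_V [Finite G] [CharP F 2] (b : BTC V R) (C : Crd V R i j v w1 w2) (τ : TorD V R i j v t)
    {a : F} (ha : a ≠ 0) (ha1 : a ≠ 1) {P : Subgroup G} (hP2 : IsPGroup 2 P)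
    (hPV : P ≤ normalizer (V : Set G)) (hPR : P ≤ centralizer (R i : Set G)) (hW : WW V (R i) ≤ P)
    (hY : YY V R ≤ P)
    (hcen : ∀ x ∈ WW V (R i), (∀ s ∈ P, s * x * s⁻¹ * x⁻¹ ∈ R i) → x ∈ V) : CY b.toBT i ≤ V := by
  by_contra hne
  have hPN : P ≤ normalizer (R i : Set G) := hPR.trans (centralizer_le_normalizer _)
  have h1 : P ≤ normalizer (CY b.toBT i : Set G) := by
    refine le_normalizer_of fun g hg x hx => ?_
    exact CY_conj b.toBT (hPV hg) (cj_eq_self_iff.2 (hPN hg)) hx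
  obtain ⟨x, hx, hxV, hxP⟩ := Cz.exists_fixed_mod hP2 (B := CY b.toBT i) (fun x hx => hW (UU_le_WW i hx.1)) h1 hPV hne
  apply hxV
  have hP₀ : P ⊓ centralizer (V : Set G) ≤ centralizer (V : Set G) := inf_le_right
  have hY₀ : YY V R ≤ P ⊓ centralizer (V : Set G) := le_inf hY YY_le_cen
  have hxY : x ∈ YP b.toBT (P ⊓ centralizer (V : Set G)) := ⟨UU_le_YY i hx.1, fun c hc => hxP c hc.1⟩
  refine hcen x (UU_le_WW i hx.1) fun s hs => ?_
  obtain ⟨w, hw, hws⟩ := cen_fact b.toBT C hP2 hPV hPR hW hs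
  have h2 : kp (w * s) x ∈ R i := kp_mem_R b C τ hP₀ (hP2.to_le inf_le_left) hY₀ ha ha1
    (mem_inf.2 ⟨mul_mem (hW hw) hs, hws⟩) hxY hx
  have e : s * x * s⁻¹ * x⁻¹ = w⁻¹ * kp (w * s) x * w⁻¹⁻¹ * (w⁻¹ * x * w⁻¹⁻¹ * x⁻¹) := by unfold kp; group
  rw [e]
  exact mul_mem (conj_mem_of_normalizer (b.W_le_N i (inv_mem hw)) h2) (b.WU (inv_mem hw) hx.1)

/-- **LEMMA CA**: `C_M(A) = e` -/
theorem cen_A [Finite G] [CharP F 2] (b : BTC V R) (C : Crd V R i j v w1 w2) (τ : TorD V R i j v t)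
    {a : F} (ha : a ≠ 0) (ha1 : a ≠ 1) (S : Sylow 2 G) (hSV : (S : Subgroup G) ≤ normalizer (V : Set G))
    (hSR : (S : Subgroup G) ≤ normalizer (R i : Set G))
    (hcen : ∀ x ∈ WW V (R i), (∀ s ∈ (S : Subgroup G), s ∈ centralizer (R i : Set G) →
      s * x * s⁻¹ * x⁻¹ ∈ R i) → x ∈ V) {x : G} (hx : x ∈ WW V (R i))
    (h : ∀ u ∈ UU V R j, u * x * u⁻¹ * x⁻¹ ∈ R i) : x ∈ V := by
  have hle : ∀ N T : Subgroup G, IsPGroup 2 T → (S : Subgroup G) ≤ N → N ≤ normalizer (T : Set G) →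
      T ≤ N → T ≤ (S : Subgroup G) := by
    intro N T hT hSN hN _
    have h3 : IsPGroup 2 ((S : Subgroup G) ⊔ T : Subgroup G) :=
      S.isPGroup'.to_sup_of_normal_right' hT (hSN.trans hN)
    have h4 := S.is_maximal' h3 le_sup_left
    exact le_sup_right.trans_eq h4
  have hWS : WW V (R i) ≤ (S : Subgroup G) :=
    hle _ _ (b.W_isPGroup i) hSR (normalizer_le_WW V (R i)) (b.W_le_N i)
  have hY2 : IsPGroup 2 (YY V R) := by
    rw [b.Y_eq C.ne]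
    exact (b.U_isPGroup i).to_sup_of_normal_right' (b.U_isPGroup j) ((UU_le_cen i).trans (b.cen_le_NU j))
  have hYS : YY V R ≤ (S : Subgroup G) := hle _ _ hY2 hSV b.NV_le_NY Y_le_NV
  have hxU : x ∈ UU V R i := by
    by_contra hxU
    refine Cz.not_UU_le b S C.ne hSV hSR fun u hu => ?_
    refine b.inj C.ne.symm hx hxU hu ?_
    have e : x * u * x⁻¹ * u⁻¹ = (u * x * u⁻¹ * x⁻¹)⁻¹ := by group
    rw [e]
    exact inv_mem (V_le_D V R (b.R_le i (h u hu)))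
  refine CY_le_V b C τ ha ha1 (P := (S : Subgroup G) ⊓ centralizer (R i : Set G)) (S.isPGroup'.to_le inf_le_left)
    (inf_le_left.trans hSV) inf_le_right (le_inf hWS fun w hw => ?_) (le_inf hYS fun y hy => ?_)
    (fun x hx hs => hcen x hx fun s h1 h2 => hs s (mem_inf.2 ⟨h1, h2⟩)) ⟨hxU, fun y hy => ?_⟩
  · rw [mem_centralizer_iff]
    exact fun r hr => (b.QR i w (b.W_le_Q i hw) r hr).symm
  · exact centralizer_le (b.R_le i) (YY_le_cen hy)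
  · let T : Subgroup G :=
      { carrier := {y | y ∈ centralizer (V : Set G) ∧ kp y x ∈ R i}
        one_mem' := ⟨one_mem _, by
          have e : kp 1 x = 1 := by unfold kp; group
          rw [e]; exact one_mem _⟩
        mul_mem' := by
          rintro c d ⟨hc, hc'⟩ ⟨hd, hd'⟩
          refine ⟨mul_mem hc hd, ?_⟩
          rw [kp_mul_left]
          exact mul_mem (conj_mem_of_normalizer (b.cen_le_N i hc) hd') hc'
        inv_mem' := by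
          rintro c ⟨hc, hc'⟩
          refine ⟨inv_mem hc, ?_⟩
          have e : kp c⁻¹ x = c⁻¹ * (kp c x)⁻¹ * c := by unfold kp; group
          rw [e]
          exact conj_inv_mem_of_normalizer (b.cen_le_N i hc) (inv_mem hc') }
    have hT : YY V R ≤ T := by
      rw [b.Y_eq C.ne]
      refine sup_le (fun u hu => ⟨UU_le_cen i hu, ?_⟩) fun u hu => ⟨UU_le_cen j hu, h u hu⟩
      exact b.WU (UU_le_WW i hu) hxU
    exact (hT hy).2

end main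

/-! ### consequences -/

section norm

/-- `g ∈ N(R i)` normalising a group `E ≥ U j` with `[E, V] ≤ R i` normalises `V` -/
theorem norm_of [Finite G] (b : BT V R)
    (hA : ∀ x ∈ WW V (R i), (∀ u ∈ UU V R j, u * x * u⁻¹ * x⁻¹ ∈ R i) → x ∈ V) {E : Subgroup G}
    (hUE : UU V R j ≤ E) (hE : ∀ y ∈ E, ∀ x ∈ V, y * x * y⁻¹ * x⁻¹ ∈ R i) {g : G}
    (hg : g ∈ normalizer (R i : Set G)) (hgE : g ∈ normalizer (E : Set G)) : g ∈ normalizer (V : Set G) := by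
  have _ := b
  refine mem_normalizer_of_conj fun x hx => ?_
  refine hA _ (conj_mem_of_normalizer (normalizer_le_WW V (R i) hg) (V_le_WW V (R i) hx)) fun u hu => ?_
  have h1 := hE _ (conj_inv_mem_of_normalizer hgE (hUE hu)) x hx
  have h2 := conj_mem_of_normalizer hg h1
  have e : g * (g⁻¹ * u * g * x * (g⁻¹ * u * g)⁻¹ * x⁻¹) * g⁻¹ = u * (g * x * g⁻¹) * u⁻¹ * (g * x * g⁻¹)⁻¹ := by
    group
  rwa [e] at h2

/-- `N(R i) ∩ N(W i U j) ≤ N(V)` -/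
theorem norm_of_normA [Finite G] (b : BT V R)
    (hA : ∀ x ∈ WW V (R i), (∀ u ∈ UU V R j, u * x * u⁻¹ * x⁻¹ ∈ R i) → x ∈ V) {g : G}
    (hg : g ∈ normalizer (R i : Set G)) (hgE : g ∈ normalizer ((WW V (R i) ⊔ UU V R j : Subgroup G) : Set G)) :
    g ∈ normalizer (V : Set G) := by
  refine norm_of b hA (E := WW V (R i) ⊔ UU V R j) le_sup_right ?_ hg hgE
  let T : Subgroup G :=
    { carrier := {y | y ∈ normalizer (R i : Set G) ∧ ∀ x ∈ V, kp y x ∈ R i}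
      one_mem' := ⟨one_mem _, fun x _ => by
        have e : kp 1 x = 1 := by unfold kp; group
        rw [e]; exact one_mem _⟩
      mul_mem' := by
        rintro c d ⟨hc, hc'⟩ ⟨hd, hd'⟩
        refine ⟨mul_mem hc hd, fun x hx => ?_⟩
        rw [kp_mul_left]
        exact mul_mem (conj_mem_of_normalizer hc (hd' x hx)) (hc' x hx)
      inv_mem' := by
        rintro c ⟨hc, hc'⟩
        refine ⟨inv_mem hc, fun x hx => ?_⟩
        have e : kp c⁻¹ x = c⁻¹ * (kp c x)⁻¹ * c := by unfold kp; group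
        rw [e]
        exact conj_inv_mem_of_normalizer hc (inv_mem (hc' x hx)) }
  have hT : WW V (R i) ⊔ UU V R j ≤ T := by
    refine sup_le (fun w hw => ⟨b.W_le_N i hw, fun x hx => b.WW_comm i hw (V_le_WW V (R i) hx)⟩)
      fun u hu => ⟨b.cen_le_N i (UU_le_cen j hu), fun x hx => ?_⟩
    have e : kp u x = 1 := by
      unfold kp
      rw [← mem_centralizer_iff.1 (UU_le_cen j hu) x hx]; group
    rw [e]; exact one_mem _
  exact fun y hy x hx => (hT hy).2 x hx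

end norm

end Cfsg.Agent.Omega.IIa4.CenA
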