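import Cfsg.Agent.Omega.Node.LeafA4
import Cfsg.Agent.Omega.IIa4.CenA

/-!
# II.a, `q ≥ 4`: reduction of `GZero` to `HasBN (X ⊔ E)`

`Sit.cen_A`: LEMMA CA in the situation `Sit`;  `Sit.frattini`: `N(R i) = E (N(R i) ∩ N(V))` for every `E` normal
in `N(R i)` with `U j ≤ E ≤ C(R i)`;  `Sit.gZero_of`.
-/

set_option autoImplicit false
set_option linter.unusedSectionVars false

namespace Cfsg.Agent.Omega.IIa4

open Subgroup Cfsg Cfsg.Agent.ZN Cfsg.Agent.Omega.NatPair Cfsg.Agent.Omega.BTwo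
open Cfsg.Agent.Omega.Frame Cfsg.Agent.Omega.FrameFF

universe u

namespace Sit

variable {G : Type u} [Group G] [Finite G] {S : Sylow 2 G} {P : Subgroup G} {g : G} {F : Type} [Field F]
  [Finite F] [CharP F 2] {M : NatMod F (zl (S : Subgroup G) P)} (h : Sit S P g M)
include h

/-- a Sylow 2-subgroup in `N(V) ∩ N(R i)` -/
theorem exists_sylow (i : Pt M) : ∃ S₁ : Sylow 2 G, (S₁ : Subgroup G) ≤ normalizer (zl (S : Subgroup G) P : Set G) ∧
    (S₁ : Subgroup G) ≤ normalizer (pt M i : Set G) := by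
  obtain ⟨_, w, hw, rfl⟩ := i
  exact M.exists_sylow S h.le_N hw

theorem W_le (i : Pt M) (S₁ : Sylow 2 G) (hSR : (S₁ : Subgroup G) ≤ normalizer (pt M i : Set G)) :
    WW (zl (S : Subgroup G) P) (pt M i) ≤ (S₁ : Subgroup G) := by
  have h3 := S₁.isPGroup'.to_sup_of_normal_right' (h.bt.W_isPGroup i)
    (hSR.trans (normalizer_le_WW (zl (S : Subgroup G) P) (pt M i)))
  exact le_sup_right.trans_eq (S₁.is_maximal' h3 le_sup_left)

theorem Y_le (S₁ : Sylow 2 G) (hSV : (S₁ : Subgroup G) ≤ normalizer (zl (S : Subgroup G) P : Set G)) :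
    YY (zl (S : Subgroup G) P) (pt M) ≤ (S₁ : Subgroup G) := by
  obtain ⟨i, j, hij⟩ := h.bt.exists_pair
  have hY2 : IsPGroup 2 (YY (zl (S : Subgroup G) P) (pt M)) := by
    rw [h.bt.Y_eq hij]
    exact (h.bt.U_isPGroup i).to_sup_of_normal_right' (h.bt.U_isPGroup j)
      ((UU_le_cen i).trans (h.bt.cen_le_NU j))
  have h3 := S₁.isPGroup'.to_sup_of_normal_right' hY2 (hSV.trans h.bt.NV_le_NY)
  exact le_sup_right.trans_eq (S₁.is_maximal' h3 le_sup_left)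

/-- **LEMMA CA**: `C_{W/R}(U j) = V/R` -/
theorem cen_A (hcen : CenSE (zl (S : Subgroup G) P) (pt M)) {i j : Pt M} (hij : i ≠ j) :
    ∀ x ∈ WW (zl (S : Subgroup G) P) (pt M i), (∀ u ∈ UU (zl (S : Subgroup G) P) (pt M) j,
      u * x * u⁻¹ * x⁻¹ ∈ pt M i) → x ∈ zl (S : Subgroup G) P := by
  intro x hx hu
  obtain ⟨S₁, hSV, hSR⟩ := h.exists_sylow i
  obtain ⟨v, w1, w2, c⟩ := h.exists_coord hij
  obtain ⟨t, τ⟩ := h.exists_torD c
  obtain ⟨a, ha, ha1⟩ := h.exists_ne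
  exact CenA.cen_A h.btc (Lie.Crd.of_coord c) τ ha ha1 S₁ hSV hSR (hcen i S₁ hSV hSR) hx hu

/-- `N(R i) ∩ N(W i U j) ≤ N(V)` -/
theorem norm_of_normA (hcen : CenSE (zl (S : Subgroup G) P) (pt M)) {i j : Pt M} (hij : i ≠ j) {g : G}
    (hg : g ∈ normalizer (pt M i : Set G))
    (hgE : g ∈ normalizer ((WW (zl (S : Subgroup G) P) (pt M i) ⊔ UU (zl (S : Subgroup G) P) (pt M) j :
      Subgroup G) : Set G)) : g ∈ normalizer (zl (S : Subgroup G) P : Set G) :=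
  CenA.norm_of_normA h.bt (h.cen_A hcen hij) hg hgE

/-- `[s, x] ∈ R i` for `x ∈ V` and `s` in a 2-subgroup of `C(R i) ∩ N(V)` -/
theorem comm_V {i : Pt M} (S₁ : Sylow 2 G) (hSV : (S₁ : Subgroup G) ≤ normalizer (zl (S : Subgroup G) P : Set G))
    (hSR : (S₁ : Subgroup G) ≤ normalizer (pt M i : Set G)) {s x : G} (hs : s ∈ (S₁ : Subgroup G))
    (hsR : s ∈ centralizer (pt M i : Set G)) (hx : x ∈ zl (S : Subgroup G) P) : s * x * s⁻¹ * x⁻¹ ∈ pt M i := by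
  obtain ⟨j, hj, -⟩ := h.bt.third i i
  obtain ⟨v, w1, w2, c⟩ := h.exists_coord (Ne.symm hj)
  obtain ⟨w, hw, hws⟩ := Lie.cen_fact h.bt (Lie.Crd.of_coord c)
    (P := (S₁ : Subgroup G) ⊓ centralizer (pt M i : Set G)) (S₁.isPGroup'.to_le inf_le_left)
    (inf_le_left.trans hSV) inf_le_right (le_inf (h.W_le i S₁ hSR) fun w hw => by
      rw [mem_centralizer_iff]
      exact fun r hr => (h.bt.QR i w (h.bt.W_le_Q i hw) r hr).symm) (mem_inf.2 ⟨hs, hsR⟩)
  have e : s * x * s⁻¹ * x⁻¹ = w⁻¹ * ((w * s) * x * (w * s)⁻¹) * w⁻¹⁻¹ * x⁻¹ := by group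
  rw [e, ← mem_centralizer_iff.1 hws x hx, mul_inv_cancel_right]
  exact h.bt.WW_comm i (inv_mem hw) (V_le_WW _ _ hx)

/-- **Frattini**: `N(R i) = E (N(R i) ∩ N(V))` -/
theorem frattini (hcen : CenSE (zl (S : Subgroup G) P) (pt M)) {i j : Pt M} (hij : i ≠ j) {E : Subgroup G}
    (hE : normalizer (pt M i : Set G) ≤ normalizer (E : Set G)) (hUE : UU (zl (S : Subgroup G) P) (pt M) j ≤ E)
    (hER : E ≤ centralizer (pt M i : Set G)) {g : G} (hg : g ∈ normalizer (pt M i : Set G)) :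
    ∃ e ∈ E, e * g ∈ normalizer (zl (S : Subgroup G) P : Set G) := by
  obtain ⟨S₁, hSV, hSR⟩ := h.exists_sylow i
  have hEN : E ≤ normalizer (pt M i : Set G) := hER.trans (centralizer_le_normalizer _)
  have h1 := ((StdEven.Syl.isSyl_top_of_sylow S₁).mono hSR le_top).inf_normal hEN hE
  obtain ⟨n, hn, hng⟩ := h1.frattini (hE hg)
  refine ⟨n, hn, CenA.norm_of h.bt (h.cen_A hcen hij) (E := (S₁ : Subgroup G) ⊓ E)
    (le_inf ((UU_le_YY j).trans (h.Y_le S₁ hSV)) hUE) ?_ (mul_mem (hEN hn) hg) hng⟩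
  exact fun y hy x hx => h.comm_V S₁ hSV hSR hy.1 (hER hy.2) hx

/-- **`GZero` from a BN-pair of `X E`** -/
theorem gZero_of (hcen : CenSE (zl (S : Subgroup G) P) (pt M)) {i j : Pt M} (hij : i ≠ j) {E : Subgroup G}
    (hE : normalizer (pt M i : Set G) ≤ normalizer (E : Set G)) (hUE : UU (zl (S : Subgroup G) P) (pt M) j ≤ E)
    (hER : E ≤ centralizer (pt M i : Set G))
    (hBN : HasBN ↥(XX (zl (S : Subgroup G) P) (pt M) ⊔ E)) : GZero (zl (S : Subgroup G) P) (pt M) := by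
  have key : ∀ g ∈ normalizer (pt M i : Set G), g ∈ normalizer (zl (S : Subgroup G) P : Set G) →
      g ∈ normalizer ((XX (zl (S : Subgroup G) P) (pt M) ⊔ E : Subgroup G) : Set G) := by
    intro g h1 h2
    rw [← BTwo.cj_eq_self_iff, cj_sup, BTwo.cj_eq_self_iff.2 (h.bt.NV_le_NX h2), BTwo.cj_eq_self_iff.2 (hE h1)]
  refine ⟨i, _, ?_, ?_, ?_, hBN⟩
  · intro h0
    apply h.bt.R_ne i
    rw [eq_bot_iff, ← h0]
    exact (h.bt.R_le i).trans ((V_le_WW _ _).trans ((W_le_X _ (pt M) i).trans le_sup_left))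
  · intro g hg
    obtain ⟨k, hk⟩ := h.bt.perm g hg i
    obtain ⟨x, hx, ex⟩ := h.bt.trans_X_one k i
    have h1 : x * g ∈ normalizer (pt M i : Set G) := by
      rw [← BTwo.cj_eq_self_iff, BTwo.cj_mul, hk, ex]
    have h2 := key _ h1 (mul_mem (h.bt.X_le_NV hx) hg)
    have h3 : x ∈ normalizer ((XX (zl (S : Subgroup G) P) (pt M) ⊔ E : Subgroup G) : Set G) :=
      le_normalizer (mem_sup_left hx)
    have e : g = x⁻¹ * (x * g) := by group
    rw [e]
    exact mul_mem (inv_mem h3) h2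
  · intro g hg
    obtain ⟨e, he, heg⟩ := h.frattini hcen hij hE hUE hER hg
    have h2 := key _ (mul_mem (hER.trans (centralizer_le_normalizer _) he) hg) heg
    have h3 : e ∈ normalizer ((XX (zl (S : Subgroup G) P) (pt M) ⊔ E : Subgroup G) : Set G) :=
      le_normalizer (mem_sup_right he)
    have e1 : g = e⁻¹ * (e * g) := by group
    rw [e1]
    exact mul_mem (inv_mem h3) h2

end Sit

end Cfsg.Agent.Omega.IIa4
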