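import Cfsg.Agent.Omega.IIa4.Sit
import Cfsg.Agent.Omega.All.Main
import Cfsg.Agent.Omega.All.Mixed

/-!
# II.a, `q ≥ 4`: `⟨N(V), N(R)⟩ = G` from the TI property (`IIa4.AllP`)

`All.sup_eq_top` (helper221) and `All.mixed` (helper942) in the situation `Sit`.
-/

set_option autoImplicit false
set_option linter.unusedSectionVars false

namespace Cfsg.Agent.Omega.IIa4

open Subgroup Cfsg Cfsg.Agent.ZN Cfsg.Agent.Omega.NatPair Cfsg.Agent.Omega.BTwo
open Cfsg.Agent.Omega.Frame Cfsg.Agent.Omega.FrameLE Cfsg.Agent.Omega.FrameFF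

universe u

variable {G : Type u} [Group G] [Finite G]

/-- conjugating a mutual pair -/
theorem mutual_smul {V U : Subgroup G} {h : G} (H : NatPair.Mutual (NatPair.cj h V) U) :
    NatPair.Mutual V (NatPair.cj h⁻¹ U) where
  le := by
    intro x hx
    rw [NatPair.mem_cj, inv_inv] at hx
    have h1 := H.le hx
    rw [mem_normalizer_iff] at h1 ⊢
    intro v
    have h2 := h1 (h * v * h⁻¹)
    rw [NatPair.mem_cj, NatPair.mem_cj] at h2
    have e1 : h⁻¹ * (h * v * h⁻¹) * h = v := by group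
    have e2 : h⁻¹ * (h * x * h⁻¹ * (h * v * h⁻¹) * (h * x * h⁻¹)⁻¹) * h = x * v * x⁻¹ := by group
    rwa [e1, e2] at h2
  le' := by
    intro v hv
    have h1 := H.le' (show h * v * h⁻¹ ∈ NatPair.cj h V by
      rw [NatPair.mem_cj]
      have : h⁻¹ * (h * v * h⁻¹) * h = v := by group
      rwa [this])
    rw [mem_normalizer_iff] at h1 ⊢
    intro x
    rw [NatPair.mem_cj, NatPair.mem_cj, inv_inv]
    have h2 := h1 (h * x * h⁻¹)
    have e2 : h * v * h⁻¹ * (h * x * h⁻¹) * (h * v * h⁻¹)⁻¹ = h * (v * x * v⁻¹) * h⁻¹ := by group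
    rwa [e2] at h2
  ne := by
    obtain ⟨v, hv, w, hw, hne⟩ := H.ne
    rw [NatPair.mem_cj] at hv
    refine ⟨_, hv, h⁻¹ * w * h, ?_, ?_⟩
    · rw [NatPair.mem_cj, inv_inv]
      have : h * (h⁻¹ * w * h) * h⁻¹ = w := by group
      rwa [this]
    · intro h1
      apply hne
      have h2 := congrArg (fun t => h * t * h⁻¹) h1
      have e1 : h * (h⁻¹ * v * h * (h⁻¹ * w * h)) * h⁻¹ = v * w := by group
      have e2 : h * (h⁻¹ * w * h * (h⁻¹ * v * h)) * h⁻¹ = w * v := by group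
      simp only [e1, e2] at h2
      exact h2

/-- `All.Mix` for a member `P'` of a mutual pair with one natural factor and `C_{V'}(O²(P')) = 1` -/
theorem mix_of {F : Type*} [Field F] [Finite F] [CharP F 2] (S : Sylow 2 G) {A : Subgroup G} (M : NatMod F A)
    {P' : Subgroup G} (hP : MinPar.IsParS (S : Subgroup G) P') (hs : Single (S : Subgroup G) P')
    (hf : Free (S : Subgroup G) P') (hU : zl (S : Subgroup G) P' ≤ (S : Subgroup G)) (hA : A ≤ (S : Subgroup G))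
    (h : NatPair.Mutual A (zl (S : Subgroup G) P')) : All.Mix (S : Subgroup G) (zl (S : Subgroup G) P') M := by
  obtain ⟨F', hF1, hF2, hF3, ⟨N⟩⟩ := hs
  rw [hf] at N
  have hSP : (S : Subgroup G) ≤ P' := hP.le
  have hPU : P' ≤ normalizer (zl (S : Subgroup G) P' : Set G) := MinSimple.VModule.le_normalizer_zl _ _
  obtain ⟨-, hcard, -, hlast⟩ := All.mixed_pair S M N hSP hPU (hU.trans hSP) (hA.trans hSP) h
  obtain ⟨-, w, w', hw, -, hl, -⟩ := All.mixed M (All.natOf N (hU.trans hSP) hPU) (hU.trans hSP) (hA.trans hSP) hPU h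
  refine ⟨w, hw.ne, hl, ?_, hcard, hlast⟩
  intro r hr
  rw [hl] at hr
  obtain ⟨a, ha, v, hv, hav⟩ := hw.comm' r⁻¹ (inv_mem hr)
  refine ⟨v, hv, a, ha, ?_⟩
  have e : v * a * v⁻¹ * a⁻¹ = (a * v * a⁻¹ * v⁻¹)⁻¹ := by group
  rw [e, hav, inv_inv]

/-- the point normalised by `S` -/
theorem exists_fixed {V : Subgroup G} {ι : Type*} {R : ι → Subgroup G} (b : BT V R) {S : Subgroup G}
    (hS : S ≤ normalizer (V : Set G)) {z : G} (hz : z ∈ V) (hz1 : z ≠ 1) (hc : ∀ s ∈ S, s * z = z * s) :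
    ∃ i, z ∈ R i ∧ S ≤ normalizer (R i : Set G) := by
  obtain ⟨i, hi⟩ := b.R_cov z hz
  refine ⟨i, hi, fun s hs => ?_⟩
  obtain ⟨k, hk⟩ := b.perm s (hS hs) i
  have h1 : z ∈ R k := by
    rw [← hk, BTwo.mem_cj]
    have h2 : s⁻¹ * z * s = z := by rw [mul_assoc, ← hc s hs]; group
    rwa [h2]
  by_cases hki : k = i
  · rw [hki] at hk
    exact cj_eq_self_iff.1 hk
  · exact absurd (b.eq_one hki h1 hi) hz1

variable {S : Sylow 2 G} {P : Subgroup G} {g : G} {F : Type} [Field F] [Finite F] [CharP F 2]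
  {M : NatMod F (zl (S : Subgroup G) P)}

/-- `zc S ≤ R i` for the point `R i` normalised by `S` -/
theorem Sit.zc_le_pt (h : Sit S P g M) {i : Pt M} (hi : (S : Subgroup G) ≤ normalizer (pt M i : Set G)) :
    zc (S : Subgroup G) ≤ pt M i := by
  obtain ⟨_, w, hw, rfl⟩ := i
  intro z hz
  have hz' := MinSimple.VModule.mem_zc.1 hz
  exact M.cent_le_of_sylow S h.le_N hw hi ⟨mem_centralizer_iff.2 fun s hs => hz'.2.1 s hs, h.zc_le hz⟩

/-- **the input of THEOREM ALL** -/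
theorem Sit.inp (h : Sit S P g M) {i : Pt M} (hi : (S : Subgroup G) ≤ normalizer (pt M i : Set G))
    (hsemi : SemiOut (zl (S : Subgroup G) P) (pt M)) (hcen : ∀ x ∈ WW (zl (S : Subgroup G) P) (pt M i),
      (∀ s ∈ (S : Subgroup G), s ∈ centralizer (pt M i : Set G) → s * x * s⁻¹ * x⁻¹ ∈ pt M i) →
        x ∈ zl (S : Subgroup G) P)
    (hti : ∀ g r : G, r ∈ pt M i → r ≠ 1 → g * r * g⁻¹ ∈ pt M i → g ∈ normalizer (pt M i : Set G)) :
    All.Inp (S : Subgroup G) (zl (S : Subgroup G) P) (pt M i) (WW (zl (S : Subgroup G) P) (pt M i)) where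
  allIn := h.allIn
  VS := (h.allIn P h.isParS).trans (All.o2_CZ_le S)
  SV := h.le_N
  comm := h.bt.V_comm
  RV := h.bt.R_le i
  SR := hi
  ZR := h.zc_le_pt hi
  ti := hti
  W_eq := (hsemi i).2.symm
  W_cen := fun w hw => by
    rw [mem_centralizer_iff]
    exact fun r hr => (h.bt.QR i w (h.bt.W_le_Q i hw) r hr).symm
  VW := fun x hx => BTwo.cj_le_WW hx
  W_gen := fun X hX => iSup_le fun x => hX x x.2
  WW := fun a ha b hb => h.bt.WW_comm i ha hb
  cenW := (hsemi i).1.le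
  line := hcen

open Pointwise in
/-- **`⟨N(V), N(R)⟩ = G`** (`IIa4.AllP`) -/
theorem Sit.genVR (h : Sit S P g M) (hsemi : SemiOut (zl (S : Subgroup G) P) (pt M))
    (hcen : ∀ (i : Pt M) (S₁ : Sylow 2 G), (S₁ : Subgroup G) ≤ normalizer (zl (S : Subgroup G) P : Set G) →
      (S₁ : Subgroup G) ≤ normalizer (pt M i : Set G) → ∀ x ∈ WW (zl (S : Subgroup G) P) (pt M i),
        (∀ s ∈ (S₁ : Subgroup G), s ∈ centralizer (pt M i : Set G) → s * x * s⁻¹ * x⁻¹ ∈ pt M i) →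
          x ∈ zl (S : Subgroup G) P)
    (hti : ∀ (i : Pt M) (g r : G), r ∈ pt M i → r ≠ 1 → g * r * g⁻¹ ∈ pt M i →
      g ∈ normalizer (pt M i : Set G)) (i : Pt M) {Y : Subgroup G}
    (hV : normalizer (zl (S : Subgroup G) P : Set G) ≤ Y) (hR : normalizer (pt M i : Set G) ≤ Y) : Y = ⊤ := by
  have hZ : zc (S : Subgroup G) ≠ ⊥ := by
    refine MinSimple.Basic.zc_ne_bot S.isPGroup' fun h0 => h.bt.R_ne i (eq_bot_iff.2 ?_)
    exact ((h.bt.R_le i).trans ((h.allIn P h.isParS).trans (All.o2_CZ_le S))).trans_eq h0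
  obtain ⟨z, hz1⟩ := Subgroup.ne_bot_iff_exists_ne_one.1 hZ
  have hz := MinSimple.VModule.mem_zc.1 z.2
  obtain ⟨i₀, -, hi₀⟩ := exists_fixed h.bt h.le_N (h.zc_le z.2) (fun h0 => hz1 (Subtype.ext h0)) hz.2.1
  have I := h.inp hi₀ hsemi (hcen i₀ S h.le_N hi₀) (hti i₀)
  -- the point `i₀` is conjugate to `i` under `N(V)`
  have hR₀ : normalizer (pt M i₀ : Set G) ≤ Y := by
    obtain ⟨x, hx, hxR⟩ := h.bt.trans_one i i₀
    rw [← hxR, BTwo.normalizer_cj, cj_le_iff]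
    intro y hy
    exact mul_mem (mul_mem (hV hx) (hR hy)) (inv_mem (hV hx))
  obtain ⟨w₀, hw₀, hw₀'⟩ := i₀.2
  rw [eq_top_iff, ← All.sup_eq_top S I h.ctx.char2 M (w₀ := w₀) hw₀' hZ ?_ h.full]
  · exact sup_le hR₀ hV
  · intro P' hP' x hx hxS hmut
    have hS' : zl (S : Subgroup G) P' ≤ (S : Subgroup G) := (h.allIn P' hP').trans (All.o2_CZ_le S)
    have hm' := mutual_smul hmut
    have hm : Mutual (S : Subgroup G) P P' x⁻¹ :=
      { star₁ := h.isParS
        star₂ := hP'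
        le₁ := hm'.le'
        le₂ := hm'.le
        ne := by
          obtain ⟨v, hv, w, hw, hne⟩ := hm'.ne
          intro h0
          apply hne
          have h1 := commutator_mem_commutator hv (show w ∈ MulAut.conj x⁻¹ • zl (S : Subgroup G) P' from hw)
          rw [h0, mem_bot, commutatorElement_eq_one_iff_mul_comm] at h1
          exact h1 }
    exact mix_of S (M.conj x) hP' (h.allFree.1 _ _ _ hm).2 (h.allFree.2 _ _ _ hm).2 hS' hxS hmut

end Cfsg.Agent.Omega.IIa4
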