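import Cfsg.Agent.Omega.IIa4.Entry
import Cfsg.Agent.Omega.Lie.TorNat
import Cfsg.Agent.Omega.BTwo.Semi

/-!
# II.a, `q ≥ 4`: the situation of `FrameFF.LeafA4` in the language of `BTwo`

`Sit S P g M`: the hypotheses of `LeafA4` (without the class `K`); `V = zl S P`, points `pt M i`.
Derived: `Sit.btc`, `Sit.exists_coord`, `Sit.exists_torD`, `Sit.semi` (from `Perf`).
-/

set_option autoImplicit false
set_option linter.unusedSectionVars false

namespace Cfsg.Agent.Omega.IIa4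

open Subgroup Cfsg Cfsg.Agent.ZN Cfsg.Agent.Lib.SL2Mat Cfsg.Agent.Omega.NatPair Cfsg.Agent.Omega.BTwo
open Cfsg.Agent.Omega.Frame Cfsg.Agent.Omega.FrameLE Cfsg.Agent.Omega.FrameFF

universe u

/-- the hypotheses of `FrameFF.LeafA4` -/
structure Sit {G : Type u} [Group G] [Finite G] (S : Sylow 2 G) (P : Subgroup G) (g : G) {F : Type} [Field F]
    [Finite F] [CharP F 2] (M : NatMod F (zl (S : Subgroup G) P)) : Prop where
  ctx : Ctx G
  full : Full (S : Subgroup G)
  allIn : AllIn (S : Subgroup G)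
  allFree : AllFree (S : Subgroup G)
  min : MinSame (S : Subgroup G) P g
  four : 4 ≤ Nat.card F

/-- `[⟨A^{N(R i)}⟩, ⟨A^{N(R i)}⟩] Q i ≥ A`, `A = U j` : the normal closure of `A` in `N(R i) / Q i` is perfect -/
def Perf {G : Type*} [Group G] {ι : Type*} (V : Subgroup G) (R : ι → Subgroup G) (i j : ι) : Prop :=
  UU V R j ≤ ⁅(⨆ h : normalizer (R i : Set G), BTwo.cj (h : G) (UU V R j)),
    (⨆ h : normalizer (R i : Set G), BTwo.cj (h : G) (UU V R j))⁆ ⊔ QQ (R i)

/-- `O₂(N(R)) = W_R` is semi-extraspecial: `C(W k) = R k`, `Q k = W k` -/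
def SemiOut {G : Type*} [Group G] {ι : Type*} (V : Subgroup G) (R : ι → Subgroup G) : Prop :=
  ∀ k, centralizer (WW V (R k) : Set G) = R k ∧ QQ (R k) = WW V (R k)

namespace Sit

variable {G : Type u} [Group G] [Finite G] {S : Sylow 2 G} {P : Subgroup G} {g : G} {F : Type} [Field F]
  [Finite F] [CharP F 2] {M : NatMod F (zl (S : Subgroup G) P)} (h : Sit S P g M)
include h

theorem isParS : MinPar.IsParS (S : Subgroup G) P := h.min.pair.star₁

theorem pr : NatPair.Mutual (zl (S : Subgroup G) P) (NatPair.cj g (zl (S : Subgroup G) P)) where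
  le := h.min.pair.le₂
  le' := h.min.pair.le₁
  ne := by
    by_contra hcon
    push Not at hcon
    apply h.min.pair.ne
    rw [eq_bot_iff, commutator_le]
    intro v hv w hw
    rw [mem_bot, commutatorElement_eq_one_iff_mul_comm]
    exact hcon v hv w hw

theorem le_N : (S : Subgroup G) ≤ normalizer (zl (S : Subgroup G) P : Set G) :=
  h.isParS.le.trans (MinSimple.VModule.le_normalizer_zl _ _)

theorem P_le_N : P ≤ normalizer (zl (S : Subgroup G) P : Set G) := MinSimple.VModule.le_normalizer_zl _ _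

theorem zc_le : zc (S : Subgroup G) ≤ zl (S : Subgroup G) P := MinSimple.VModule.zc_le_zl _ _

theorem cen_mem : ∀ z ∈ (S : Subgroup G), z * z = 1 → (∀ s ∈ (S : Subgroup G), s * z = z * s) →
    z ∈ zl (S : Subgroup G) P := fun z hz hz2 hzc =>
  h.zc_le (MinSimple.VModule.mem_zc.2 ⟨hz, hzc, by rw [pow_two]; exact hz2⟩)

theorem btc_aux : zl (S : Subgroup G) P ≤ QQ (zl (S : Subgroup G) P ⊓ NatPair.cj g (zl (S : Subgroup G) P)) ∧
    BTC (zl (S : Subgroup G) P) (pt M) := IIa4.btc h.ctx.char2 M S h.le_N h.cen_mem h.pr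

/-- `b = 2` -/
theorem V_le_QQ : zl (S : Subgroup G) P ≤ QQ (zl (S : Subgroup G) P ⊓ NatPair.cj g (zl (S : Subgroup G) P)) :=
  h.btc_aux.1

theorem btc : BTC (zl (S : Subgroup G) P) (pt M) := h.btc_aux.2

theorem bt : BT (zl (S : Subgroup G) P) (pt M) := h.btc.toBT

theorem exists_ne : ∃ a : F, a ≠ 0 ∧ a ≠ 1 := by
  by_contra hcon
  push Not at hcon
  have h1 : Set.univ ⊆ ({0, 1} : Set F) := fun a _ => by
    by_cases ha : a = 0
    · exact Or.inl ha
    · exact Or.inr (hcon a ha)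
  have h2 := Set.ncard_le_ncard h1
  rw [Set.ncard_pair zero_ne_one, Set.ncard_univ] at h2
  have := h.four
  omega

/-- coordinates at two points -/
theorem exists_coord {i j : Pt M} (hij : i ≠ j) :
    ∃ (v : F → F → G) (w1 w2 : F → G), Coord (zl (S : Subgroup G) P) (pt M) i j v w1 w2 := by
  obtain ⟨w, u, -, -, -, w1, w2, c⟩ := BTwo.exists_coord M S h.le_N h.pr h.V_le_QQ hij
  exact ⟨_, w1, w2, c⟩

/-- the torus at two points -/
theorem exists_torD {i j : Pt M} {v : F → F → G} {w1 w2 : F → G}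
    (c : Coord (zl (S : Subgroup G) P) (pt M) i j v w1 w2) :
    ∃ t : F → G, Lie.TorD (zl (S : Subgroup G) P) (pt M) i j v t :=
  Lie.coord_exists_torD h.bt c (h.btc.cen_W_isPGroup i)

theorem semi {i j : Pt M} (hij : i ≠ j) (hp : Perf (zl (S : Subgroup G) P) (pt M) i j) :
    SemiOut (zl (S : Subgroup G) P) (pt M) := by
  obtain ⟨v, w1, w2, c⟩ := h.exists_coord hij
  exact fun k => c.semi h.btc h.exists_ne hp k

theorem exists_pair : ∃ i j : Pt M, i ≠ j := by
  have h1 : (![1, 0] : Fin 2 → F) ≠ 0 := fun h0 => one_ne_zero (congrFun h0 0)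
  obtain ⟨j, hj, -⟩ := h.bt.third ⟨M.line ![1, 0], _, h1, rfl⟩ ⟨M.line ![1, 0], _, h1, rfl⟩
  exact ⟨_, _, hj⟩

end Sit

end Cfsg.Agent.Omega.IIa4
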