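import Cfsg.Agent.Omega.IIa4.Sit
import Cfsg.Agent.Omega.BTwo.CzAll

/-!
# II.a, `q ≥ 4`: `R` is a TI-set and `C_G(r) ≤ N_G(R)` (THEOREM TIR / F6 in the situation `Sit`)

`Sit.cen_le`, `Sit.tir`: the literal content of `IIa4.TIRP` (`Omega/Node/LeafA4.lean`).
-/

set_option autoImplicit false
set_option linter.unusedSectionVars false

namespace Cfsg.Agent.Omega.IIa4

open Subgroup Cfsg Cfsg.Agent.ZN Cfsg.Agent.Lib.SL2Mat Cfsg.Agent.Omega.NatPair Cfsg.Agent.Omega.BTwo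
open Cfsg.Agent.Omega.Frame Cfsg.Agent.Omega.FrameLE Cfsg.Agent.Omega.FrameFF

universe u

namespace Sit

variable {G : Type u} [Group G] [Finite G] {S : Sylow 2 G} {P : Subgroup G} {g : G} {F : Type} [Field F]
  [Finite F] [CharP F 2] {M : NatMod F (zl (S : Subgroup G) P)} (h : Sit S P g M)
include h

/-- a point containing a central involution of `S`, with `C_G(z) ≤ N_G(R)` -/
theorem exists_cen (hs : SemiOut (zl (S : Subgroup G) P) (pt M))
    (hC : ∀ (i : Pt M) (S₁ : Sylow 2 G), (S₁ : Subgroup G) ≤ normalizer (zl (S : Subgroup G) P : Set G) →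
      (S₁ : Subgroup G) ≤ normalizer (pt M i : Set G) →
      ∀ x ∈ WW (zl (S : Subgroup G) P) (pt M i), (∀ s ∈ (S₁ : Subgroup G), s ∈ centralizer (pt M i : Set G) →
        s * x * s⁻¹ * x⁻¹ ∈ pt M i) → x ∈ zl (S : Subgroup G) P) :
    ∃ (i : Pt M) (z : G), z ∈ pt M i ∧ z ≠ 1 ∧ centralizer {z} ≤ normalizer (pt M i : Set G) := by
  have b := h.btc
  have b' := h.bt
  have hS1 : (S : Subgroup G) ≠ ⊥ := h.ctx.sylow_ne_bot S
  obtain ⟨z, hz, hzS, hz2, hzc, hz1⟩ := exists_central S (T := (S : Subgroup G)) le_rfl le_normalizer hS1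
  have hzV : z ∈ zl (S : Subgroup G) P := h.cen_mem z hzS hz2 hzc
  obtain ⟨i, hi⟩ := b'.R_cov z hzV
  have hSR : (S : Subgroup G) ≤ normalizer (pt M i : Set G) := by
    intro s hs
    obtain ⟨k, hk⟩ := b'.perm s (h.le_N hs) i
    have h1 : z ∈ pt M k := by
      rw [← hk, BTwo.mem_cj, mul_assoc, ← hzc s hs, inv_mul_cancel_left]
      exact hi
    have h2 : k = i := by
      by_contra h3
      exact hz1 (b'.eq_one h3 h1 hi)
    rw [h2] at hk
    exact BTwo.cj_eq_self_iff.1 hk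
  have hzK : (S : Subgroup G) ≤ centralizer {z} := by
    intro s hs
    rw [mem_centralizer_iff]
    intro t ht
    rw [Set.mem_singleton_iff.1 ht]
    exact (hzc s hs).symm
  obtain ⟨j, hj, -⟩ := b'.third i i
  obtain ⟨v, w1, w2, c⟩ := h.exists_coord (Ne.symm hj)
  have hne : ZN.o2 (centralizer {z}) ≠ ⊥ := by
    intro h0
    apply hz1
    have h1 : zpowers z ≤ O2 (centralizer {z}) := by
      refine le_O2_of_normal ?_ ?_ ?_
      · rw [zpowers_le, mem_centralizer_iff]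
        intro t ht
        rw [Set.mem_singleton_iff.1 ht]
      · exact S.isPGroup'.to_le (zpowers_le.2 hzS)
      · intro g hg a ha
        obtain ⟨n, rfl⟩ := mem_zpowers_iff.1 ha
        have h2 : g * z = z * g := (mem_centralizer_iff.1 hg z (Set.mem_singleton _)).symm
        have h3 : g * z ^ n = z ^ n * g := (show Commute g z from h2).zpow_right n
        rw [h3, mul_inv_cancel_right]
        exact ha
    have h2 : z ∈ ZN.o2 (centralizer {z}) := h1 (mem_zpowers z)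
    rw [h0, mem_bot] at h2
    exact h2
  have hch := MinSimple.Basic.char2_of_o2_ne_bot h.ctx.char2 S hzK hne
  refine ⟨i, z, hi, hz1, ?_⟩
  refine (Cz.main c b' (Cz.not_UU_le b S (Ne.symm hj) h.le_N hSR) S h.le_N hSR hi hzK
    (fun g hg hgc => hch (mem_inf.2 ⟨hg, hgc⟩)) fun m hm hmt => ?_).2.2
  rw [(hs i).2] at hm
  exact hC i S h.le_N hSR m hm hmt

/-- `C_G(r) ≤ N_G(R)` for all points `R` and all `1 ≠ r ∈ R` -/
theorem cen_le (hs : SemiOut (zl (S : Subgroup G) P) (pt M))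
    (hC : ∀ (i : Pt M) (S₁ : Sylow 2 G), (S₁ : Subgroup G) ≤ normalizer (zl (S : Subgroup G) P : Set G) →
      (S₁ : Subgroup G) ≤ normalizer (pt M i : Set G) →
      ∀ x ∈ WW (zl (S : Subgroup G) P) (pt M i), (∀ s ∈ (S₁ : Subgroup G), s ∈ centralizer (pt M i : Set G) →
        s * x * s⁻¹ * x⁻¹ ∈ pt M i) → x ∈ zl (S : Subgroup G) P) :
    ∀ (i : Pt M), ∀ r ∈ pt M i, r ≠ 1 → centralizer {r} ≤ normalizer (pt M i : Set G) := by
  obtain ⟨i, z, hz, hz1, hzc⟩ := h.exists_cen hs hC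
  exact Cz.cen_le (fun i j hij => h.exists_coord hij) h.bt hz hz1 hzc

/-- **THEOREM TIR** -/
theorem tir (hs : SemiOut (zl (S : Subgroup G) P) (pt M))
    (hC : ∀ (i : Pt M) (S₁ : Sylow 2 G), (S₁ : Subgroup G) ≤ normalizer (zl (S : Subgroup G) P : Set G) →
      (S₁ : Subgroup G) ≤ normalizer (pt M i : Set G) →
      ∀ x ∈ WW (zl (S : Subgroup G) P) (pt M i), (∀ s ∈ (S₁ : Subgroup G), s ∈ centralizer (pt M i : Set G) →
        s * x * s⁻¹ * x⁻¹ ∈ pt M i) → x ∈ zl (S : Subgroup G) P) (i : Pt M) (g r : G) (hr : r ∈ pt M i)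
    (hr1 : r ≠ 1) (hg : g * r * g⁻¹ ∈ pt M i) : g ∈ normalizer (pt M i : Set G) := by
  obtain ⟨i', z, hz, hz1, hzc⟩ := h.exists_cen hs hC
  exact Cz.tir (fun i j hij => h.exists_coord hij) h.bt hz hz1 hzc i g r hr hr1 hg

end Sit

end Cfsg.Agent.Omega.IIa4
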