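import Cfsg.Agent.Omega.FSix.Main
import Cfsg.Agent.Omega.IIa4.Sit

/-!
# II.a, `q ≥ 4`: THEOREM TIR in the situation `Sit` (`IIa4.TIRP`), `c ≥ 1` (#11541 (1))
-/

set_option autoImplicit false
set_option linter.unusedSectionVars false

namespace Cfsg.Agent.Omega.IIa4

open Subgroup Cfsg Cfsg.Agent.ZN Cfsg.Agent.Omega.NatPair Cfsg.Agent.Omega.BTwo
open Cfsg.Agent.Omega.Frame Cfsg.Agent.Omega.FrameLE Cfsg.Agent.Omega.FrameFF

section cone

variable {G : Type*} [Group G] {ι : Type*} {V : Subgroup G} {R : ι → Subgroup G} {i j : ι}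
  {F : Type*} [Field F] {v : F → F → G} {w1 w2 : F → G}

/-- **`c ≥ 1`** -/
theorem c_ge_one [Finite G] (c : Coord V R i j v w1 w2) (b : BTC V R) (S : Sylow 2 G)
    (hSV : (S : Subgroup G) ≤ normalizer (V : Set G)) (hSR : (S : Subgroup G) ≤ normalizer (R i : Set G)) :
    ¬ UU V R j ≤ DD V R := by
  intro h1
  have : Fact (Nat.Prime 2) := ⟨Nat.prime_two⟩
  have hD : UU V R i ≤ DD V R := by
    obtain ⟨x, hx, e⟩ := b.trans_one j i
    rw [← b.cj_UU hx e, ← cj_eq_self_iff.2 (b.NV_le_ND hx)]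
    exact cj_mono h1
  have hUV : UU V R i ≤ V := fun u hu => b.cen_DU (i := i) (hD hu) fun u' hu' => b.D_comm (hD hu) (hD hu')
  obtain ⟨h, hh, H⟩ := b.mt i
  have H1 : ∀ j k, j ≠ i → k ≠ i → ∃ v ∈ V, BTwo.cj (h * v * h⁻¹) (R j) = R k := fun j k hj hk =>
    (H j k hj hk).1
  have hne : BTwo.cj h V ≠ V := by
    intro e
    obtain ⟨k, hki, hkj⟩ := b.third i j
    obtain ⟨v0, hv0, e0⟩ := H1 j k c.ne.symm hki
    have h2 : h * v0 * h⁻¹ ∈ V := by
      have := conj_mem_cj (g := h) hv0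
      rwa [e] at this
    have h3 : BTwo.cj (h * v0 * h⁻¹) (R j) = R j :=
      cj_eq_self_iff.2 (b.cen_le_N j (b.V_le_cen h2))
    exact hkj (b.R_index (h3.symm.trans e0)).symm
  -- the involutions of `W i` are in `V` or `V^h`
  have hinv : ∀ x ∈ WW V (R i), x * x = 1 → x ∈ V ∨ x ∈ BTwo.cj h V := by
    intro x hx hxx
    obtain ⟨v0, hv0, hu⟩ := b.W_fact H1 hh hx
    set y := h * v0 * h⁻¹ with hy
    set u := y⁻¹ * x with hudef
    have hyy : y * y = 1 := by
      rw [hy]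
      calc h * v0 * h⁻¹ * (h * v0 * h⁻¹) = h * (v0 * v0) * h⁻¹ := by group
        _ = 1 := by rw [b.V_sq v0 hv0]; group
    have huV := hUV hu
    have huu := b.V_sq u huV
    have hxe : x = y * u := by rw [hudef]; group
    have hyi : y⁻¹ = y := inv_eq_of_mul_eq_one_left hyy
    have hui : u⁻¹ = u := inv_eq_of_mul_eq_one_left huu
    have hcom : y * u = u * y := by
      rw [hxe] at hxx
      have h2 := inv_eq_of_mul_eq_one_left hxx
      rw [mul_inv_rev, hyi, hui] at h2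
      exact h2.symm
    have hyW : y ∈ WW V (R i) := BTwo.cj_le_WW hh (conj_mem_cj hv0)
    obtain ⟨a, ha⟩ := c.W1_act y hyW
    obtain ⟨u1, u2, hu12⟩ := (c.mem_V u).1 huV
    have h2 := ha u1 u2
    rw [hu12, hcom, mul_inv_cancel_right, ← hu12] at h2
    have h3 : a * u2 = 0 := left_eq_add.1 (c.v_inj h2).1
    rcases mul_eq_zero.1 h3 with h4 | h4
    · left
      have hyU : y ∈ UU V R i := by
        refine mem_inf.2 ⟨hyW, ?_⟩
        rw [mem_centralizer_iff]
        intro w hw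
        obtain ⟨w1, w2, rfl⟩ := (c.mem_V w).1 hw
        have h5 := ha w1 w2
        rw [h4, zero_mul, add_zero, mul_inv_eq_iff_eq_mul] at h5
        exact h5.symm
      rw [hxe]
      exact mul_mem (hUV hyU) huV
    · right
      have huR : u ∈ R i := by
        rw [← hu12, h4]
        exact (c.mem_R1 _).2 ⟨_, rfl⟩
      have h5 : u ∈ BTwo.cj h V := by
        rw [BTwo.mem_cj]
        exact b.R_le i (conj_inv_mem_of_normalizer hh huR)
      rw [hxe]
      exact mul_mem (conj_mem_cj hv0) h5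
  -- two conjugates only
  have htwo : ∀ n ∈ normalizer (R i : Set G), BTwo.cj n V = V ∨ BTwo.cj n V = BTwo.cj h V := by
    intro n hn
    have h2 : ∀ x ∈ BTwo.cj n V, x ∈ V ∨ x ∈ BTwo.cj h V := by
      intro x hx
      refine hinv x (BTwo.cj_le_WW hn hx) ?_
      have h3 := b.V_sq _ (BTwo.mem_cj.1 hx)
      calc x * x = n * (n⁻¹ * x * n * (n⁻¹ * x * n)) * n⁻¹ := by group
        _ = 1 := by rw [h3]; group
    by_cases h3 : BTwo.cj n V ≤ V
    · exact Or.inl (eq_of_le_of_card_ge h3 (card_cj n V).ge)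
    · right
      refine eq_of_le_of_card_ge ?_ (by rw [card_cj, card_cj])
      intro q hq
      by_contra hq'
      obtain ⟨p, hp, hp'⟩ := SetLike.not_le_iff_exists.1 h3
      have hq1 := (h2 q hq).resolve_right hq'
      have hp1 := (h2 p hp).resolve_left hp'
      rcases h2 _ (mul_mem hp hq) with h4 | h4
      · exact hp' ((mul_mem_cancel_right hq1).1 h4)
      · exact hq' ((mul_mem_cancel_left hp1).1 h4)
  have hidx : (normalizer (V : Set G)).relIndex (normalizer (R i : Set G)) = 2 := by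
    rw [relIndex_eq_two_iff_exists_notMem_and']
    refine ⟨h⁻¹, inv_mem hh, fun h2 => hne (cj_eq_self_iff.2 ?_), fun n hn => ?_⟩
    · have := inv_mem h2
      rwa [inv_inv] at this
    · rcases htwo n hn with h2 | h2
      · exact Or.inr (cj_eq_self_iff.1 h2)
      · left
        rw [← cj_eq_self_iff, BTwo.cj_mul, h2, cj_inv_cj]
  exact MinSimple.Basic.not_dvd_relIndex S hSR
    (hidx.symm.dvd.trans (relIndex_dvd_of_le_left (normalizer (R i : Set G)) hSV))

end cone

universe u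

/-- the configuration `IIa4.TIR` from `Sit` and `SemiOut` -/
theorem Sit.tir_six {G : Type u} [Group G] [Finite G] {S : Sylow 2 G} {P : Subgroup G} {g : G} {F : Type} [Field F]
    [Finite F] [CharP F 2] {M : NatMod F (zl (S : Subgroup G) P)} (h : Sit S P g M)
    (hsemi : SemiOut (zl (S : Subgroup G) P) (pt M)) (i : Pt M) (x r : G) (hr : r ∈ pt M i) (hr1 : r ≠ 1)
    (hx : x * r * x⁻¹ ∈ pt M i) : x ∈ normalizer (pt M i : Set G) := by
  obtain ⟨j, hj, -⟩ := h.bt.third i i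
  obtain ⟨v, w1, w2, c⟩ := h.exists_coord (Ne.symm hj)
  obtain ⟨w, hw, hi⟩ := i.2
  obtain ⟨S₁, hSV, hSR⟩ := M.exists_sylow S h.le_N hw
  have hSR' : (S₁ : Subgroup G) ≤ normalizer (pt M i : Set G) := by
    have e : pt M i = M.line w := hi
    rw [e]
    exact hSR
  refine (FSix.tir c h.btc h.exists_ne (c_ge_one c h.btc S₁ hSV hSR') (hsemi i).1.le (hsemi i).2 S₁ hSV hSR'
    fun z hz hz1 y hy hy' => ?_).1 x r hr hr1 hx
  exact MinSimple.Basic.char2_centralizer h.ctx.char2 (by rw [pow_two]; exact h.bt.V_sq z (h.bt.R_le i hz)) hz1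
    (mem_inf.2 ⟨hy, hy'⟩)

end Cfsg.Agent.Omega.IIa4
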