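import Cfsg.Agent.Omega.IIa4.Tir
import Cfsg.Agent.Omega.Node.LeafA4

/-!
# `IIa4.TIRP` (part 3 of the leaf II.a, `q ≥ 4`)
-/

set_option autoImplicit false

namespace Cfsg.Agent.Omega.IIa4

universe u

theorem tirp : TIRP.{u} := fun _ _ _ _ _ _ _ _ _ _ _ h hs hC => h.tir hs hC

end Cfsg.Agent.Omega.IIa4
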